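import Cfsg.Agent.Lib.OutCriteria.Basic
import Mathlib.GroupTheory.Transfer

/-!
# Symmetry groups of anisotropic quadratic maps (owner: helper64)

* `isSolvable_of_anisotropic`: a group preserving an anisotropic quadratic map `q : V → E`, normalised
  by a group inducing a transitive group on `E ∖ {1}`, is solvable
-/

set_option autoImplicit false

namespace Cfsg.Agent.OutCriteria

open Subgroup

variable {V E : Type*} [CommGroup V] [Finite V] [CommGroup E] [Finite E]

/-- The automorphisms stabilising the series `1 ≤ W ≤ V`, with exponent 2, commute. -/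
theorem commute_of_series {W : Subgroup V} {a a' : MulAut V} (ha : ∀ w ∈ W, a w = w)
    (ha' : ∀ w ∈ W, a' w = w) (hd : ∀ v, a v * v ∈ W) (hd' : ∀ v, a' v * v ∈ W) (hV : ∀ v : V, v * v = 1) :
    a * a' = a' * a := by
  refine MulEquiv.ext fun v => ?_
  rw [MulAut.mul_apply, MulAut.mul_apply]
  have h1 := ha _ (hd' v)
  have h2 := ha' _ (hd v)
  rw [map_mul] at h1 h2
  calc a (a' v) = a (a' v) * a v * a v := by rw [mul_assoc, hV, mul_one]
    _ = a' v * v * a v := by rw [h1]
    _ = a v * v * a' v := by ac_rfl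
    _ = a' (a v) * a' v * a' v := by rw [h2]
    _ = a' (a v) := by rw [mul_assoc, hV, mul_one]

theorem isSolvable_of_anisotropic (hV : ∀ v : V, v * v = 1) (hE : ∀ e : E, e * e = 1) (q : V → E)
    (hb : ∀ u v w : V, q (u * v * w) * q (u * v) * q (u * w) * q (v * w) * q u * q v * q w = 1)
    (hani : ∀ v, q v = 1 → v = 1) (L : Subgroup (MulAut V)) (hL : ∀ l ∈ L, ∀ v, q (l v) = q v)
    (htr : ∀ e e' : E, e ≠ 1 → e' ≠ 1 →
      ∃ a ∈ normalizer (L : Set (MulAut V)), ∃ f : MulAut E, (∀ v, q (a v) = f (q v)) ∧ f e = e') :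
    Group.IsSolvable L := by
  classical
  haveI : Fact (Nat.Prime 2) := ⟨Nat.prime_two⟩
  have hcancel : ∀ {x y : E}, x * y = 1 → x = y := fun {x y} h => by
    rw [← mul_one x, ← hE y, ← mul_assoc, h, one_mul]
  have hcancelV : ∀ {x y : V}, x * y = 1 → x = y := fun {x y} h => by
    rw [← mul_one x, ← hV y, ← mul_assoc, h, one_mul]
  -- the polar form
  let b : V → V → E := fun v w => q (v * w) * q v * q w
  have hbl : ∀ u v w, b (u * v) w = b u w * b v w := fun u v w => by
    refine hcancel ?_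
    rw [← hb u v w]
    simp only [b]
    have e1 : q w * q w = 1 := hE _
    calc q (u * v * w) * q (u * v) * q w * (q (u * w) * q u * q w * (q (v * w) * q v * q w))
        = q (u * v * w) * q (u * v) * q (u * w) * q (v * w) * q u * q v * q w * (q w * q w) := by ac_rfl
      _ = _ := by rw [e1, mul_one]
  have hbs : ∀ v w, b v w = b w v := fun v w => by
    simp only [b]; rw [mul_comm v w]; ac_rfl
  have hb1 : ∀ w, b 1 w = 1 := fun w => by
    have h := hbl 1 1 w
    rw [mul_one] at h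
    rw [h, hE]
  have hq1 : q 1 = 1 := by
    have h := hb1 1
    simp only [b] at h
    rwa [mul_one, hE, one_mul] at h
  obtain ⟨T⟩ : Nonempty (Sylow 2 L) := inferInstance
  set T' : Subgroup (MulAut V) := (T : Subgroup L).map L.subtype with hT'
  by_cases hT1 : (T : Subgroup L) = ⊥
  · refine Cfsg.Agent.S0205.result (Nat.not_even_iff_odd.1 fun he => ?_)
    have h := T.not_dvd_index
    rw [hT1, index_bot] at h
    exact h he.two_dvd
  have hqT : ∀ t ∈ T', ∀ v, q (t v) = q v := fun t ht v => hL t (map_subtype_le _ ht) v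
  let Y : Subgroup V := ⨅ t : T', fix (t : MulAut V)
  have hY : ∀ {v}, v ∈ Y ↔ ∀ t ∈ T', t v = v := fun {v} => by
    simp only [Y, mem_iInf, mem_fix]
    exact ⟨fun h t ht => h ⟨t, ht⟩, fun h t => h t t.2⟩
  let W : Subgroup V := closure {x | ∃ t ∈ T', ∃ v, x = t v * v}
  have hWg : ∀ t ∈ T', ∀ v, t v * v ∈ W := fun t ht v => subset_closure ⟨t, ht, v, rfl⟩
  have hWinv : ∀ t ∈ T', ∀ x ∈ W, t x ∈ W := by
    intro t ht x hx
    have h := mul_mem (hWg t ht x) hx
    rwa [mul_assoc, hV, mul_one] at h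
  -- `Y ⊥ W`
  have hperp : ∀ y ∈ Y, ∀ x ∈ W, b x y = 1 := by
    intro y hy x hx
    induction hx using closure_induction with
    | mem x hx =>
      obtain ⟨t, ht, v, rfl⟩ := hx
      have h : b (t v) y = b v y := by
        simp only [b]
        have e : t v * y = t (v * y) := by rw [map_mul, hY.1 hy t ht]
        rw [e, hqT t ht, hqT t ht]
      rw [hbl, h, hE]
    | one => exact hb1 y
    | mul x z _ _ hx hz => rw [hbl, hx, hz, one_mul]
    | inv x _ hx => rwa [show x⁻¹ = x from inv_eq_of_mul_eq_one_left (hV x)]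
  let W₀ : Subgroup V := Y ⊓ W
  have hqW₀ : ∀ u ∈ W₀, ∀ v ∈ W₀, q (u * v) = q u * q v := fun u hu v hv => by
    have h := hperp v hv.1 u hu.2
    simp only [b] at h
    rw [mul_assoc] at h
    exact hcancel h
  have hinj : ∀ u ∈ W₀, ∀ v ∈ W₀, q u = q v → u = v := fun u hu v hv h =>
    hcancelV (hani _ (by rw [hqW₀ u hu v hv, h, hE]))
  -- `W₀` is nontrivial
  obtain ⟨w₀, hw₀, hw₀1⟩ : ∃ w ∈ W₀, w ≠ 1 := by
    letI : MulAction T' W :=
      { smul := fun t x => ⟨(t : MulAut V) x, hWinv t t.2 x x.2⟩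
        one_smul := fun x => Subtype.ext rfl
        mul_smul := fun a b x => Subtype.ext rfl }
    have hp : IsPGroup 2 T' := T.2.map _
    have hWne : W ≠ ⊥ := by
      intro h
      refine hT1 ((eq_bot_iff_forall _).2 fun t ht => Subtype.ext (MulEquiv.ext fun v => ?_))
      have h1 : (t : MulAut V) v * v ∈ W := hWg _ ⟨t, ht, rfl⟩ v
      rw [h, mem_bot] at h1
      exact hcancelV h1
    obtain ⟨k, hk⟩ := IsPGroup.iff_card.1 (show IsPGroup 2 W from fun x => ⟨1, Subtype.ext (by
      show (x : V) ^ 2 ^ 1 = 1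
      rw [pow_one, pow_two, hV])⟩)
    have hk0 : k ≠ 0 := by
      rintro rfl
      exact hWne (eq_bot_of_card_eq _ hk)
    obtain ⟨y, hy, hy1⟩ := hp.exists_fixed_point_of_prime_dvd_card_of_fixed_point W
      (hk ▸ dvd_pow_self 2 hk0) (a := (1 : W)) (fun t => Subtype.ext (map_one (t : MulAut V)))
    exact ⟨(y : V), ⟨hY.2 fun t ht => congrArg Subtype.val (hy ⟨t, ht⟩), y.2⟩,
      fun h => hy1 (Subtype.ext h.symm)⟩
  -- `q` maps `W₀` onto `E`
  have hsurj : ∀ e : E, e ≠ 1 → ∃ w ∈ W₀, q w = e := by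
    intro e he
    obtain ⟨a, ha, f, hf, hfe⟩ := htr (q w₀) e (fun h => hw₀1 (hani _ h)) he
    -- move `a` into the normaliser of `T'`
    have haL : ∀ {l}, l ∈ L → a * l * a⁻¹ ∈ L := fun {l} hl => (mem_normalizer_iff.1 ha l).1 hl
    let Ta : Subgroup L := (T'.map (MulAut.conj a).toMonoidHom).subgroupOf L
    have hTa : T'.map (MulAut.conj a).toMonoidHom ≤ L := by
      rintro _ ⟨t, ht, rfl⟩
      exact haL (map_subtype_le _ ht)
    have hTac : Nat.card Ta = Nat.card (T : Subgroup L) := by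
      rw [Nat.card_congr (subgroupOfEquivOfLe hTa).toEquiv,
        card_map_of_injective (MulAut.conj a).injective, hT', card_map_of_injective L.subtype_injective]
    let Ta' : Sylow 2 L := Sylow.ofCard Ta (by rw [hTac, T.card_eq_multiplicity])
    obtain ⟨l, hl⟩ := MulAction.exists_smul_eq L Ta' T
    have hmap : ∀ t ∈ T', ((l : MulAut V) * a) * t * ((l : MulAut V) * a)⁻¹ ∈ T' := by
      intro t ht
      refine ⟨l * ⟨a * t * a⁻¹, haL (map_subtype_le _ ht)⟩ * l⁻¹, ?_, by
        show (l : MulAut V) * (a * t * a⁻¹) * (l : MulAut V)⁻¹ = _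
        group⟩
      refine hl.subst (motive := fun P : Sylow 2 L => _ ∈ (P : Subgroup L)) ?_
      rw [Sylow.coe_subgroup_smul]
      exact ⟨⟨a * t * a⁻¹, haL (map_subtype_le _ ht)⟩, mem_subgroupOf.2 ⟨t, ht, rfl⟩, rfl⟩
    have hTeq : T'.map (MulAut.conj ((l : MulAut V) * a)).toMonoidHom = T' :=
      eq_of_le_of_card_ge (by rintro _ ⟨t, ht, rfl⟩; exact hmap t ht)
        (le_of_eq (card_map_of_injective (MulAut.conj _).injective).symm)
    set n := (l : MulAut V) * a
    have hback : ∀ t ∈ T', n⁻¹ * t * n ∈ T' := fun t ht => by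
      obtain ⟨s, hs, e⟩ := hTeq.ge ht
      have : n⁻¹ * t * n = s := by
        rw [← e]
        show n⁻¹ * (n * s * n⁻¹) * n = s
        group
      rwa [this]
    refine ⟨n w₀, ⟨hY.2 fun t ht => ?_, ?_⟩, ?_⟩
    · have h := hY.1 hw₀.1 _ (hback t ht)
      rw [MulAut.mul_apply, MulAut.mul_apply] at h
      exact (congrArg n h).symm.trans (MulAut.apply_inv_self _ n _) |>.symm
    · have : W ≤ W.comap n.toMonoidHom := (closure_le _).2 (by
        rintro _ ⟨t, ht, v, rfl⟩
        show n (t v * v) ∈ W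
        have h : n (t v) = (n * t * n⁻¹) (n v) :=
          DFunLike.congr_fun (inv_mul_cancel_right (n * t) n).symm v
        rw [map_mul, h]
        exact hWg _ (hmap t ht) _)
      exact this hw₀.2
    · show q ((l : MulAut V) (a w₀)) = e
      rw [hL _ l.2, hf, hfe]
  -- `W₀` is its own orthogonal
  have hperp₀ : ∀ v, (∀ w ∈ W₀, b v w = 1) → v ∈ W₀ := by
    intro v hv
    by_cases hv1 : v = 1
    · rw [hv1]; exact one_mem _
    obtain ⟨w, hw, hwe⟩ := hsurj (q v) (fun h => hv1 (hani v h))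
    have h := hv w hw
    simp only [b] at h
    rw [hwe, mul_assoc, hE, mul_one] at h
    rw [hcancelV (hani _ h)]
    exact hw
  have hYW : ∀ y ∈ Y, y ∈ W₀ := fun y hy => hperp₀ y fun w hw => by rw [hbs]; exact hperp y hy w hw.2
  have hWW : ∀ x ∈ W, x ∈ W₀ := fun x hx => hperp₀ x fun w hw => hperp w hw.1 x hx
  have hdT : ∀ t ∈ T', ∀ v, t v * v ∈ W₀ := fun t ht v => hWW _ (hWg t ht v)
  have hfT : ∀ t ∈ T', ∀ w ∈ W₀, t w = w := fun t ht w hw => hY.1 hw.1 t ht
  -- the normaliser of `T` stabilises the same series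
  have hser : ∀ h : L, h ∈ normalizer ((T : Subgroup L) : Set L) →
      (∀ w ∈ W₀, (h : MulAut V) w = w) ∧ ∀ v, (h : MulAut V) v * v ∈ W₀ := by
    intro h hh
    have hh' : ∀ t ∈ T', (h : MulAut V)⁻¹ * t * h ∈ T' := by
      rintro _ ⟨t, ht, rfl⟩
      refine ⟨h⁻¹ * t * h, ?_, rfl⟩
      have := (mem_normalizer_iff.1 (inv_mem hh) t).1 ht
      rw [inv_inv] at this
      exact this
    have hWfix : ∀ w ∈ W₀, (h : MulAut V) w = w := by
      intro w hw
      refine hinj _ (hYW _ (hY.2 fun t ht => ?_)) _ hw (hL _ h.2 w)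
      have e := hY.1 hw.1 _ (hh' t ht)
      rw [MulAut.mul_apply, MulAut.mul_apply] at e
      exact (congrArg (h : MulAut V) e).symm.trans (MulAut.apply_inv_self _ (h : MulAut V) _) |>.symm
    refine ⟨hWfix, fun v => hperp₀ _ fun w hw => ?_⟩
    have e : b ((h : MulAut V) v) w = b v w := by
      simp only [b]
      have e1 : (h : MulAut V) v * w = (h : MulAut V) (v * w) := by rw [map_mul, hWfix w hw]
      rw [e1, hL _ h.2, hL _ h.2]
    rw [hbl, e, hE]
  have hNC : normalizer ((T : Subgroup L) : Set L) ≤ centralizer ((T : Subgroup L) : Set L) := fun h hh => by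
    refine mem_centralizer_iff.2 fun t ht => Subtype.ext ?_
    have ht' : (t : MulAut V) ∈ T' := ⟨t, ht, rfl⟩
    exact commute_of_series (hfT _ ht') (hser h hh).1 (hdT _ ht') (hser h hh).2 hV
  have hcompl := MonoidHom.ker_transferSylow_isComplement' T hNC
  set K := (MonoidHom.transferSylow T hNC).ker with hK
  have hKodd : Odd (Nat.card K) := Nat.not_even_iff_odd.1 fun he =>
    T.not_dvd_index (hcompl.index_eq_card ▸ he.two_dvd)
  haveI : Group.IsSolvable K := Cfsg.Agent.S0205.result hKodd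
  haveI : Group.IsSolvable (T : Subgroup L) := Solvable.isSolvable_of_isPGroup T.2
  exact Group.isSolvable_of_ker_le_range K.subtype (MonoidHom.transferSylow T hNC)
    (by rw [range_subtype])

end Cfsg.Agent.OutCriteria
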