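import Cfsg.Agent.S0205
import Cfsg.Agent.Lib.FPF.Basic
import Cfsg.Agent.Lib.Solvable.Basic
import Cfsg.Agent.Lib.HallHigman.DerivedAbelian
import Mathlib.LinearAlgebra.Matrix.GeneralLinearGroup.Card
import Mathlib.Algebra.Module.ZMod
import Mathlib.RingTheory.IntegralDomain
import Mathlib.RingTheory.LittleWedderburn

/-!
# Tools for the solvability criteria for `Out G` (owner: helper64)

* `isPGroup_of_prime`, `isSolvable_of_kernel`: kernels detected by elements of odd prime order
* `isSolvable_of_sylow_normal`: a normal 2-subgroup of odd index gives solvability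
* `card_mulAut_elementary`: `|Aut E| = |GL_n(2)|`
* `centralizer_cyclic_of_irreducible`: Schur's lemma for finite irreducible actions
* `exists_card_fixed`: fixed points of an automorphism of prime power order
-/

set_option autoImplicit false

namespace Cfsg.Agent.OutCriteria

open Subgroup

/-- A finite group without nontrivial elements of odd prime order is a 2-group. -/
theorem isPGroup_of_prime {K : Type*} [Group K] [Finite K]
    (h : ∀ r : ℕ, r.Prime → r ≠ 2 → ∀ x : K, x ^ r = 1 → x = 1) : IsPGroup 2 K := by
  intro x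
  refine ⟨(orderOf x).primeFactorsList.length, ?_⟩
  rw [← Nat.eq_prime_pow_of_unique_prime_dvd (orderOf_pos x).ne' (fun {r} hr hd => ?_), pow_orderOf_eq_one]
  by_contra hr2
  have ho : orderOf (x ^ (orderOf x / r)) = r := orderOf_pow_orderOf_div (orderOf_pos x).ne' hd
  have h1 := h r hr hr2 (x ^ (orderOf x / r))
    ((congrArg ((x ^ (orderOf x / r)) ^ ·) ho.symm).trans (pow_orderOf_eq_one _))
  rw [h1, orderOf_one] at ho
  exact hr.ne_one ho.symm

/-- Solvability through a homomorphism whose kernel has no elements of odd prime order. -/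
theorem isSolvable_of_kernel {A B : Type*} [Group A] [Finite A] [Group B] (f : A →* B)
    (hB : Group.IsSolvable f.range) (hk : ∀ r : ℕ, r.Prime → r ≠ 2 → ∀ x : A, x ^ r = 1 → f x = 1 → x = 1) :
    Group.IsSolvable A := by
  haveI : Fact (Nat.Prime 2) := ⟨Nat.prime_two⟩
  haveI := hB
  haveI : Group.IsSolvable f.ker := Solvable.isSolvable_of_isPGroup (p := 2)
    (isPGroup_of_prime fun r hr hr2 x hx => Subtype.ext (hk r hr hr2 x (congrArg Subtype.val hx) x.2))
  exact Group.isSolvable_of_ker_le_range f.ker.subtype f.rangeRestrict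
    (by rw [MonoidHom.ker_rangeRestrict, range_subtype])

/-- Solvability through a homomorphism. -/
theorem isSolvable_of_hom {A B : Type*} [Group A] [Group B] (f : A →* B)
    (hB : Group.IsSolvable f.range) (hk : Group.IsSolvable f.ker) : Group.IsSolvable A :=
  haveI := hB; haveI := hk
  Group.isSolvable_of_ker_le_range f.ker.subtype f.rangeRestrict
    (by rw [MonoidHom.ker_rangeRestrict, range_subtype])

/-- A subgroup inside a solvable subgroup is solvable. -/
theorem isSolvable_of_le {A : Type*} [Group A] {H K : Subgroup A} (hK : Group.IsSolvable K) (h : H ≤ K) :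
    Group.IsSolvable H :=
  haveI := hK
  solvable_of_solvable_injective (f := inclusion h) (inclusion_injective h)

/-- The normaliser in `Y` of a 2-subgroup of odd index is solvable. -/
theorem isSolvable_inf_normalizer {A : Type*} [Group A] [Finite A] {T Y : Subgroup A} (hTY : T ≤ Y)
    (hT : IsPGroup 2 T) (hrel : ¬ 2 ∣ T.relIndex Y) :
    Group.IsSolvable ↥(Y ⊓ normalizer (T : Set A)) := by
  haveI : Fact (Nat.Prime 2) := ⟨Nat.prime_two⟩
  have hTN : T ≤ Y ⊓ normalizer (T : Set A) := le_inf hTY le_normalizer
  haveI : (T.subgroupOf (Y ⊓ normalizer (T : Set A))).Normal :=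
    normal_subgroupOf_iff_le_normalizer hTN |>.2 inf_le_right
  have hodd : Odd (Nat.card (↥(Y ⊓ normalizer (T : Set A)) ⧸ T.subgroupOf (Y ⊓ normalizer (T : Set A)))) := by
    rw [← Subgroup.index_eq_card, ← relIndex]
    refine Nat.not_even_iff_odd.1 fun he => hrel ?_
    rw [← relIndex_mul_relIndex T (Y ⊓ normalizer (T : Set A)) Y hTN inf_le_left]
    exact dvd_mul_of_dvd_left he.two_dvd _
  haveI := Cfsg.Agent.S0205.result hodd
  haveI : Group.IsSolvable (T.subgroupOf (Y ⊓ normalizer (T : Set A))) := Solvable.isSolvable_of_isPGroup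
    (hT.of_equiv (subgroupOfEquivOfLe hTN).symm)
  exact Group.isSolvable_of_ker_le_range (T.subgroupOf (Y ⊓ normalizer (T : Set A))).subtype
    (QuotientGroup.mk' (T.subgroupOf (Y ⊓ normalizer (T : Set A))))
    (by rw [QuotientGroup.ker_mk', range_subtype])

/-- The automorphisms of an elementary abelian group of order `2 ^ n`. -/
theorem card_mulAut_elementary {E : Type*} [CommGroup E] [Finite E] (hE : ∀ e : E, e * e = 1) {n : ℕ}
    (hn : Nat.card E = 2 ^ n) : Nat.card (MulAut E) = Nat.card (GL (Fin n) (ZMod 2)) := by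
  haveI : Fact (Nat.Prime 2) := ⟨Nat.prime_two⟩
  letI : Module (ZMod 2) (Additive E) := AddCommGroup.zmodModule fun x => by
    rw [two_nsmul]; exact hE x.toMul
  haveI : Module.Finite (ZMod 2) (Additive E) := Module.Finite.of_finite
  have hfr : Module.finrank (ZMod 2) (Additive E) = n := by
    have h := Module.natCard_eq_pow_finrank (K := ZMod 2) (V := Additive E)
    rw [Nat.card_congr Additive.toMul, hn, Nat.card_zmod] at h
    exact (Nat.pow_right_injective le_rfl h).symm
  refine Nat.card_congr ?_
  refine Equiv.trans ?_ (Units.mapEquiv (LinearMap.toMatrixAlgEquiv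
    (Module.finBasisOfFinrankEq (ZMod 2) (Additive E) hfr)).toMulEquiv).toEquiv
  refine Equiv.trans ?_ (LinearMap.GeneralLinearGroup.generalLinearEquiv (ZMod 2) (Additive E)).symm.toEquiv
  exact
    { toFun := fun f => { (MulEquiv.toAdditive f) with
        map_smul' := fun c x => ZMod.map_smul (MulEquiv.toAdditive f).toAddMonoidHom c x }
      invFun := fun g => MulEquiv.toAdditive.symm g.toAddEquiv
      left_inv := fun f => rfl
      right_inv := fun g => rfl }

/-- Automorphisms commuting with an irreducible set of automorphisms form a cyclic group. -/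
theorem centralizer_cyclic_of_irreducible {E : Type*} [CommGroup E] [Finite E] [Nontrivial E]
    (B : Set (MulAut E))
    (hirr : ∀ S : Subgroup E, (∀ b ∈ B, ∀ v ∈ S, b v ∈ S) → S = ⊥ ∨ S = ⊤) :
    IsCyclic (centralizer B) := by
  classical
  let toEnd : MulAut E →* AddMonoid.End (Additive E) :=
    { toFun := fun φ => MonoidHom.toAdditive φ.toMonoidHom
      map_one' := rfl
      map_mul' := fun _ _ => rfl }
  let K : Subring (AddMonoid.End (Additive E)) := Subring.centralizer (toEnd '' B)
  have hmem : ∀ φ : centralizer B, toEnd φ ∈ K := fun φ => by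
    refine Subring.mem_centralizer_iff.mpr ?_
    rintro _ ⟨b, hb, rfl⟩
    rw [← map_mul, ← map_mul]
    exact congrArg toEnd (mem_centralizer_iff.1 φ.2 b hb)
  haveI : Finite (AddMonoid.End (Additive E)) := DFunLike.finite _
  haveI : Nontrivial K := ⟨⟨0, 1, fun h => by
    obtain ⟨v, hv⟩ := exists_ne (1 : E)
    have := congrArg (fun φ : AddMonoid.End (Additive E) => φ (Additive.ofMul v)) (congrArg Subtype.val h)
    exact hv (Additive.ofMul.injective this.symm)⟩⟩
  haveI : NoZeroDivisors K := ⟨fun {x y} hxy => by
    by_contra hne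
    push Not at hne
    have hinj : Function.Injective (x : AddMonoid.End (Additive E)) := by
      let S : Subgroup E :=
        { carrier := {v | (x : AddMonoid.End (Additive E)) (Additive.ofMul v) = 0}
          one_mem' := map_zero _
          mul_mem' := fun {v w} hv hw => by
            show (x : AddMonoid.End (Additive E)) (Additive.ofMul v + Additive.ofMul w) = 0
            rw [map_add, hv, hw, add_zero]
          inv_mem' := fun {v} hv => by
            show (x : AddMonoid.End (Additive E)) (- Additive.ofMul v) = 0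
            rw [map_neg, hv, neg_zero] }
      rcases hirr S fun b hb v hv => by
          have e := congrArg (fun φ : AddMonoid.End (Additive E) => φ (Additive.ofMul v))
            (Subring.mem_centralizer_iff.mp x.2 _ ⟨b, hb, rfl⟩)
          show (x : AddMonoid.End (Additive E)) (toEnd b (Additive.ofMul v)) = 0
          exact e.symm.trans (by
            show toEnd b ((x : AddMonoid.End (Additive E)) (Additive.ofMul v)) = 0
            rw [hv, map_zero]) with h | h
      · refine (injective_iff_map_eq_zero _).mpr fun v hv => ?_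
        have : v.toMul ∈ S := hv
        rw [h, Subgroup.mem_bot] at this
        exact this
      · exact absurd (Subtype.ext (AddMonoidHom.ext fun v => (h ▸ Subgroup.mem_top v.toMul : v.toMul ∈ S))) hne.1
    refine hne.2 (Subtype.ext (AddMonoidHom.ext fun v => hinj ?_))
    show ((x * y : K) : AddMonoid.End (Additive E)) v = _
    rw [hxy]
    exact (map_zero (x : AddMonoid.End (Additive E))).symm⟩
  haveI : IsDomain K := NoZeroDivisors.to_isDomain _
  letI : Field K := (Finite.isDomain_to_isField K).toField
  let f : centralizer B →* K :=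
    { toFun := fun φ => ⟨toEnd φ, hmem φ⟩
      map_one' := Subtype.ext (map_one toEnd)
      map_mul' := fun a b => Subtype.ext (map_mul toEnd _ _) }
  refine isCyclic_of_subgroup_isDomain f fun a b h => Subtype.ext (MulEquiv.ext fun v => ?_)
  exact congrArg (fun φ : K => Additive.toMul ((φ : AddMonoid.End (Additive E)) (Additive.ofMul v))) h

/-- The fixed subgroup of an automorphism. -/
abbrev fix {E : Type*} [Group E] (x : MulAut E) : Subgroup E := FPF.fixBy (MonoidHom.id (MulAut E)) x

theorem mem_fix {E : Type*} [Group E] {x : MulAut E} {v : E} : v ∈ fix x ↔ x v = v := Iff.rfl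

/-- Fixed points of a `q`-element inside an invariant subgroup. -/
theorem card_fix_modEq {E : Type*} [Group E] [Finite E] {q k : ℕ} (hq : q.Prime) {x : MulAut E}
    (hx : x ^ q ^ k = 1) {W : Subgroup E} (hW : ∀ v ∈ W, x v ∈ W) :
    Nat.card W ≡ Nat.card ↥(W ⊓ fix x) [MOD q] := by
  haveI : Fact q.Prime := ⟨hq⟩
  have hW' : ∀ a ∈ zpowers x, ∀ v ∈ W, a v ∈ W := by
    intro a ha
    obtain ⟨j, rfl⟩ := mem_powers_iff_mem_zpowers.2 ha
    intro v hv
    induction j with
    | zero => simpa using hv
    | succ j ih =>
      show (x ^ (j + 1)) v ∈ W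
      rw [pow_succ', MulAut.mul_apply]
      exact hW _ (ih (pow_mem (mem_zpowers x) j))
  have hp : IsPGroup q (zpowers x) := fun a => ⟨k, Subtype.ext (by
    obtain ⟨j, hj⟩ := mem_powers_iff_mem_zpowers.2 a.2
    show (a : MulAut E) ^ q ^ k = 1
    rw [← hj, ← pow_mul, mul_comm, pow_mul, hx, one_pow])⟩
  letI : MulAction (zpowers x) W :=
    { smul := fun a v => ⟨(a : MulAut E) v, hW' a a.2 v v.2⟩
      one_smul := fun v => Subtype.ext rfl
      mul_smul := fun a b v => Subtype.ext rfl }
  refine (hp.card_modEq_card_fixedPoints W).trans (congrArg (· % q) ?_)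
  refine Nat.card_congr
    { toFun := fun v => ⟨(v.1 : E), v.1.2, congrArg Subtype.val (v.2 ⟨x, mem_zpowers x⟩)⟩
      invFun := fun v => ⟨⟨(v : E), v.2.1⟩, fun a => Subtype.ext ?_⟩
      left_inv := fun v => rfl
      right_inv := fun v => rfl }
  obtain ⟨j, hj⟩ := mem_powers_iff_mem_zpowers.2 a.2
  show (a : MulAut E) v = v
  rw [← hj]
  exact Subgroup.pow_mem (FPF.stabOf (MonoidHom.id (MulAut E)) (v : E)) (x := x) v.2.2 j

end Cfsg.Agent.OutCriteria
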