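import Cfsg.Agent.Lib.OutCriteria.Basic
import Cfsg.Agent.Lib.Transfer.Focal
import Cfsg.Agent.Lib.Solvable.Converse
import Cfsg.Agent.S2904

/-!
# Normalisers of transitive linear groups over `F₂` (owner: helper64)

* `isSolvable_quotient`: `N(Y)/Y` is solvable for `Y ≤ Aut E` transitive on `E ∖ {1}`
* `isSolvable_of_normalizes`: a group normalising `Y` and a Sylow 2-subgroup of `Y` is solvable
-/

set_option autoImplicit false

namespace Cfsg.Agent.OutCriteria

open Subgroup

variable {E : Type*} [CommGroup E] [Finite E]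

theorem exists_card_eq (hE : ∀ e : E, e * e = 1) (W : Subgroup E) : ∃ f, Nat.card W = 2 ^ f := by
  haveI : Fact (Nat.Prime 2) := ⟨Nat.prime_two⟩
  exact IsPGroup.iff_card.1 fun w => ⟨1, Subtype.ext (by
    show (w : E) ^ 2 ^ 1 = 1
    rw [pow_one, pow_two, hE])⟩

theorem card_lt_of_moved {x : MulAut E} (hx : x ≠ 1) : fix x ≠ ⊤ := fun h =>
  hx (MulEquiv.ext fun v => mem_fix.1 (h.ge (mem_top v)))

theorem fix_invariant {x c : MulAut E} (h : Commute x c) : ∀ v ∈ fix c, x v ∈ fix c := fun v hv => by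
  rw [mem_fix] at hv ⊢
  rw [← MulAut.mul_apply, ← h.eq, MulAut.mul_apply, hv]

/-- An automorphism of order `p`, `p` a primitive prime divisor, acts irreducibly. -/
theorem irreducible_of_primitive (hE : ∀ e : E, e * e = 1) {n p : ℕ} (hn : Nat.card E = 2 ^ n)
    (hp : p.Prime) (hpn : p ∣ 2 ^ n - 1) (hprim : ∀ k : ℕ, 0 < k → k < n → ¬ p ∣ 2 ^ k - 1)
    {d : MulAut E} (hd : d ^ p = 1) (hd1 : d ≠ 1) :
    ∀ S : Subgroup E, (∀ b ∈ ({d} : Set (MulAut E)), ∀ v ∈ S, b v ∈ S) → S = ⊥ ∨ S = ⊤ := by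
  have hdvd : ∀ (W : Subgroup E), ∃ f, f ≤ n ∧ Nat.card W = 2 ^ f := fun W => by
    obtain ⟨f, hf⟩ := exists_card_eq hE W
    exact ⟨f, (Nat.pow_dvd_pow_iff_le_right (le_refl 2)).1 (by rw [← hf, ← hn]; exact card_subgroup_dvd_card W), hf⟩
  have hzero : ∀ f, f ≤ n → 2 ^ n ≡ 2 ^ f [MOD p] → f = 0 ∨ f = n := fun f hf h => by
    rcases Nat.eq_zero_or_pos f with rfl | hf0
    · exact Or.inl rfl
    refine Or.inr (le_antisymm hf (Nat.le_of_not_lt fun hlt => hprim f hf0 hlt ?_))
    have h1 : 1 ≡ 2 ^ n [MOD p] := (Nat.modEq_iff_dvd' Nat.one_le_two_pow).2 hpn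
    exact (Nat.modEq_iff_dvd' Nat.one_le_two_pow).1 (h1.trans h)
  have hF : fix d = ⊥ := by
    obtain ⟨f, hf, hfc⟩ := hdvd (fix d)
    have h := card_fix_modEq (k := 1) hp (by rwa [pow_one]) (W := (⊤ : Subgroup E)) (fun v _ => mem_top _)
    rw [top_inf_eq, card_top, hn, hfc] at h
    rcases hzero f hf h with rfl | rfl
    · exact eq_bot_of_card_eq _ hfc
    · exact absurd (eq_top_of_card_eq _ (hfc.trans hn.symm)) (card_lt_of_moved hd1)
  intro S hS
  obtain ⟨k, hk, hkc⟩ := hdvd S
  have h := card_fix_modEq (k := 1) hp (by rwa [pow_one]) (W := S) (fun v hv => hS d rfl v hv)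
  rw [hF, inf_bot_eq, card_bot, hkc] at h
  have h1 : 1 ≡ 2 ^ n [MOD p] := (Nat.modEq_iff_dvd' Nat.one_le_two_pow).2 hpn
  rcases hzero k hk (h1.symm.trans h.symm) with rfl | rfl
  · exact Or.inl (eq_bot_of_card_eq _ hkc)
  · exact Or.inr (eq_top_of_card_eq _ (hkc.trans hn.symm))

/-- The centraliser of a nontrivial central element of an irreducible kind governs the normaliser. -/
theorem isSolvable_normalizer_of_irreducible [Nontrivial E] {R : Subgroup (MulAut E)} {d : MulAut E}
    (hdR : d ∈ R) (hdc : ∀ r ∈ R, d * r = r * d)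
    (hirr : ∀ S : Subgroup E, (∀ b ∈ ({d} : Set (MulAut E)), ∀ v ∈ S, b v ∈ S) → S = ⊥ ∨ S = ⊤) :
    Group.IsSolvable (normalizer (R : Set (MulAut E))) := by
  haveI := centralizer_cyclic_of_irreducible _ hirr
  have hRC : R ≤ centralizer ({d} : Set (MulAut E)) := fun r hr =>
    mem_centralizer_singleton_iff.2 (hdc r hr).symm
  haveI : IsCyclic R := isCyclic_of_injective (inclusion hRC) (inclusion_injective hRC)
  let e := IsCyclic.mulAutMulEquiv R
  refine isSolvable_of_hom R.normalizerMonoidHom ?_ ?_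
  · exact Group.isSolvable_of_comm fun x y => Subtype.ext (e.injective (by
      rw [Subgroup.coe_mul, Subgroup.coe_mul, map_mul, map_mul, mul_comm]))
  · rw [normalizerMonoidHom_ker]
    letI := IsCyclic.commGroup (α := centralizer ({d} : Set (MulAut E)))
    refine Group.isSolvable_of_comm fun x y => Subtype.ext (Subtype.ext ?_)
    have hx : ((x : normalizer (R : Set (MulAut E))) : MulAut E) ∈ centralizer ({d} : Set (MulAut E)) :=
      centralizer_le (Set.singleton_subset_iff.2 hdR) x.2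
    have hy : ((y : normalizer (R : Set (MulAut E))) : MulAut E) ∈ centralizer ({d} : Set (MulAut E)) :=
      centralizer_le (Set.singleton_subset_iff.2 hdR) y.2
    rw [Subgroup.coe_mul, Subgroup.coe_mul, Subgroup.coe_mul, Subgroup.coe_mul]
    exact congrArg Subtype.val (mul_comm (⟨_, hx⟩ : centralizer ({d} : Set (MulAut E))) ⟨_, hy⟩)

section Six

variable (hE : ∀ e : E, e * e = 1) (hn : Nat.card E = 2 ^ 6)
include hE hn

theorem card_le_six (W : Subgroup E) : ∃ f, f ≤ 6 ∧ Nat.card W = 2 ^ f := by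
  obtain ⟨f, hf⟩ := exists_card_eq hE W
  exact ⟨f, (Nat.pow_dvd_pow_iff_le_right (le_refl 2)).1 (by rw [← hf, ← hn]; exact card_subgroup_dvd_card W), hf⟩

/-- The fixed points of a nontrivial `q`-element. -/
theorem card_fix_lt {q k : ℕ} (hq : q.Prime) {x : MulAut E} (hx : x ^ q ^ k = 1) (hx1 : x ≠ 1) :
    ∃ f, f < 6 ∧ Nat.card (fix x) = 2 ^ f ∧ 2 ^ 6 % q = 2 ^ f % q := by
  obtain ⟨f, hf, hfc⟩ := card_le_six hE hn (fix x)
  have h := card_fix_modEq hq hx (W := (⊤ : Subgroup E)) (fun v _ => mem_top _)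
  rw [top_inf_eq, card_top, hn, hfc] at h
  refine ⟨f, lt_of_le_of_ne hf ?_, hfc, h⟩
  rintro rfl
  exact card_lt_of_moved hx1 (eq_top_of_card_eq _ (hfc.trans hn.symm))

/-- No commuting elements of orders a power of 7, and a power of 5 or 31, both nontrivial. -/
theorem not_five_seven {q k l : ℕ} (hq : q.Prime) (hq' : q = 5 ∨ q = 31) {x c : MulAut E}
    (hx : x ^ q ^ k = 1) (hx1 : x ≠ 1) (hc : c ^ 7 ^ l = 1) (hc1 : c ≠ 1) (hxc : Commute x c) : False := by
  obtain ⟨f, hf, hfc, hfm⟩ := card_fix_lt hE hn hq hx hx1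
  obtain ⟨g, hg, hgc, hgm⟩ := card_fix_lt hE hn (by norm_num : Nat.Prime 7) hc hc1
  have h1 : Nat.card (fix x) % 7 = Nat.card ↥(fix x ⊓ fix c) % 7 :=
    card_fix_modEq (by norm_num) hc (fix_invariant hxc.symm)
  have h2 : Nat.card (fix c) % q = Nat.card ↥(fix c ⊓ fix x) % q :=
    card_fix_modEq hq hx (fix_invariant hxc)
  rw [inf_comm] at h2
  obtain ⟨j, hj, hjc⟩ := card_le_six hE hn (fix x ⊓ fix c)
  have hjf : j ≤ f := (Nat.pow_le_pow_iff_right (le_refl 2)).1
    (hjc ▸ hfc ▸ card_le_of_le (inf_le_left : fix x ⊓ fix c ≤ fix x))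
  rw [hjc] at h1 h2; rw [hfc] at h1; rw [hgc] at h2
  rcases hq' with rfl | rfl <;> interval_cases g <;> simp at hgm <;> interval_cases f <;> simp at hfm <;>
    interval_cases j <;> simp_all

/-- No element of order a power of 7 centralises a group of exponent 3 and order 9. -/
theorem not_seven_three {k : ℕ} {x : MulAut E} (hx : x ^ 7 ^ k = 1) (hx1 : x ≠ 1)
    {B : Subgroup (MulAut E)} (hB : Nat.card B = 3 ^ 2) (hB3 : ∀ b : B, b ^ 3 = 1)
    (hBc : ∀ a b : B, a * b = b * a) (hxB : ∀ b : B, Commute x (b : MulAut E)) : False := by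
  haveI : Fact (Nat.Prime 3) := ⟨Nat.prime_three⟩
  obtain ⟨f, hf, hfc, hfm⟩ := card_fix_lt hE hn (by norm_num : Nat.Prime 7) hx hx1
  have key : ∀ b : B, b ≠ 1 → fix x ≤ fix (b : MulAut E) → ∀ v ∈ fix (b : MulAut E), v = 1 := by
    intro b hb hle v hv
    obtain ⟨g, hg, hgc, hgm⟩ := card_fix_lt hE hn Nat.prime_three (k := 1) (x := (b : MulAut E))
      (by rw [pow_one]; exact congrArg Subtype.val (hB3 b)) (fun e => hb (Subtype.ext e))
    have h2 : Nat.card (fix (b : MulAut E)) % 7 = Nat.card ↥(fix (b : MulAut E) ⊓ fix x) % 7 :=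
      card_fix_modEq (by norm_num) hx (fix_invariant (hxB b))
    rw [inf_eq_right.2 hle, hgc, hfc] at h2
    have hg0 : g = 0 := by
      interval_cases g <;> simp at hgm <;> interval_cases f <;> simp_all
    exact mem_bot.1 ((eq_bot_of_card_eq _ (by rw [hgc, hg0, pow_zero])).le hv)
  have hf' : f = 0 ∨ f = 3 := by interval_cases f <;> simp_all
  rcases hf' with rfl | rfl
  · have hbot : fix x = ⊥ := eq_bot_of_card_eq _ hfc
    have h1 : ∀ v : E, v = 1 := fun v => by
      have h := FPF.pow_p_eq_one_of_fpf (p := 3) B.subtype hB3 hB hBc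
        (fun c hc m hm => key c hc (hbot ▸ bot_le) m hm) v
      rwa [pow_succ, pow_two, hE, one_mul] at h
    haveI : Subsingleton E := ⟨fun a b => (h1 a).trans (h1 b).symm⟩
    rw [Nat.card_of_subsingleton (1 : E)] at hn
    norm_num at hn
  · let res : B →* MulAut (fix x) := FPF.resAct B.subtype (fix x)
      (fun b v hv => fix_invariant (hxB b).symm v hv)
    have hninj : ¬ Function.Injective res := fun hinj => by
      have h := card_dvd_of_injective res hinj
      rw [hB, card_mulAut_elementary (fun e => Subtype.ext (hE e)) hfc] at h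
      haveI : Fact (Nat.Prime 2) := ⟨Nat.prime_two⟩
      rw [Matrix.card_GL_field] at h
      norm_num [Fin.prod_univ_succ, ZMod.card] at h
    rw [← MonoidHom.ker_eq_bot_iff, ← ne_eq, Subgroup.ne_bot_iff_exists_ne_one] at hninj
    obtain ⟨⟨b, hb⟩, hb1⟩ := hninj
    have hle : fix x ≤ fix (b : MulAut E) := fun v hv => mem_fix.2
      (congrArg Subtype.val (DFunLike.congr_fun (MonoidHom.mem_ker.1 hb) (⟨v, hv⟩ : fix x)))
    have hbot := key b (fun e => hb1 (Subtype.ext e)) hle
    have : fix x = ⊥ := (eq_bot_iff_forall _).2 fun v hv => hbot v (hle hv)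
    rw [this, card_bot] at hfc
    norm_num at hfc

end Six

/-- An element of order 9 acts irreducibly on a group of order `2 ^ 6`. -/
theorem irreducible_of_nine (hE : ∀ e : E, e * e = 1) (hn : Nat.card E = 2 ^ 6) {d : MulAut E}
    (hd : orderOf d = 9) :
    ∀ S : Subgroup E, (∀ b ∈ ({d} : Set (MulAut E)), ∀ v ∈ S, b v ∈ S) → S = ⊥ ∨ S = ⊤ := by
  classical
  -- the points moved by `d ^ 3` fall into orbits of length 9
  have hcount : ∀ W : Subgroup E, (∀ v ∈ W, d v ∈ W) →
      Nat.card W % 9 = Nat.card ↥(W ⊓ fix (d ^ 3)) % 9 := by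
    intro W hW
    let α := {v : W // (d ^ 3) (v : E) ≠ v}
    have hpow : ∀ a ∈ zpowers d, ∀ v ∈ W, a v ∈ W := by
      intro a ha
      obtain ⟨j, rfl⟩ := mem_powers_iff_mem_zpowers.2 ha
      intro v hv
      clear ha
      induction j with
      | zero => simpa using hv
      | succ j ih =>
        show (d ^ (j + 1)) v ∈ W
        rw [pow_succ', MulAut.mul_apply]
        exact hW _ ih
    have hcomm : ∀ a ∈ zpowers d, Commute (d ^ 3) a := fun a ha => by
      obtain ⟨j, rfl⟩ := mem_powers_iff_mem_zpowers.2 ha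
      exact ((Commute.refl d).pow_left 3).pow_right j
    letI : MulAction (zpowers d) α :=
      { smul := fun a v => ⟨⟨(a : MulAut E) (v : W), hpow a a.2 _ v.1.2⟩, fun h => v.2 (by
          show (d ^ 3) ((v : W) : E) = _
          refine (a : MulAut E).injective ?_
          rw [← MulAut.mul_apply, ← (hcomm a a.2).eq, MulAut.mul_apply]
          exact h)⟩
        one_smul := fun v => Subtype.ext (Subtype.ext rfl)
        mul_smul := fun a b v => Subtype.ext (Subtype.ext rfl) }
    have hst : ∀ v : α, MulAction.stabilizer (zpowers d) v = ⊥ := fun v => by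
      refine (eq_bot_iff_forall _).2 fun a ha => ?_
      have ha' : (a : MulAut E) ((v : W) : E) = (v : W) := congrArg (fun u : α => ((u : W) : E)) ha
      by_contra ha1
      refine v.2 ?_
      have ho : orderOf (a : MulAut E) ∣ 9 := hd ▸ orderOf_dvd_of_mem_zpowers a.2
      have hmem : d ^ 3 ∈ zpowers (a : MulAut E) := by
        obtain ⟨j, hj⟩ := mem_powers_iff_mem_zpowers.2 a.2
        have hj9 : ¬ 9 ∣ j := fun h => ha1 (Subtype.ext (by
          show (a : MulAut E) = 1
          rw [← hj]; exact orderOf_dvd_iff_pow_eq_one.1 (hd.symm ▸ h)))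
        -- `d ^ 3` is a power of `d ^ j`
        have key : ∃ l, j * l % 9 = 3 % 9 := by
          have hlt : j % 9 < 9 := Nat.mod_lt _ (by norm_num)
          have hne : j % 9 ≠ 0 := fun h => hj9 (Nat.dvd_of_mod_eq_zero h)
          have : ∃ l < 9, (j % 9) * l % 9 = 3 % 9 := by
            generalize j % 9 = r at hlt hne
            interval_cases r <;> first | contradiction | decide
          obtain ⟨l, -, hl⟩ := this
          exact ⟨l, by rw [Nat.mul_mod]; rw [Nat.mul_mod, Nat.mod_mod] at hl; exact hl⟩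
        obtain ⟨l, hl⟩ := key
        rw [← hj, show d ^ 3 = (d ^ j) ^ l from ?_]
        · exact pow_mem (mem_zpowers _) l
        · rw [← pow_mul, pow_eq_pow_iff_modEq, hd]
          exact hl.symm
      obtain ⟨l, hl⟩ := mem_powers_iff_mem_zpowers.2 hmem
      refine (DFunLike.congr_fun hl _).symm.trans ?_
      exact Subgroup.pow_mem (FPF.stabOf (MonoidHom.id (MulAut E)) ((v : W) : E)) (x := (a : MulAut E)) ha' l
    haveI : Fintype (MulAction.orbitRel.Quotient (zpowers d) α) := Fintype.ofFinite _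
    have h9 : 9 ∣ Nat.card α := by
      rw [Nat.card_congr (MulAction.selfEquivSigmaOrbitsQuotientStabilizer (zpowers d) α), Nat.card_sigma]
      refine Finset.dvd_sum fun ω _ => ?_
      rw [hst, Nat.card_congr QuotientGroup.quotientBot.toEquiv, Nat.card_zpowers, hd]
    have e : Nat.card W = Nat.card ↥(W ⊓ fix (d ^ 3)) + Nat.card α := by
      rw [Nat.card_congr (Equiv.sumCompl (fun v : W => (d ^ 3) (v : E) = v)).symm, Nat.card_sum]
      congr 1
      exact Nat.card_congr
        { toFun := fun v => ⟨(v.1 : E), v.1.2, v.2⟩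
          invFun := fun v => ⟨⟨(v : E), v.2.1⟩, v.2.2⟩
          left_inv := fun v => rfl
          right_inv := fun v => rfl }
    omega
  have hfix : fix (d ^ 3) = ⊥ := by
    obtain ⟨g, hg, hgc⟩ := card_le_six hE hn (fix (d ^ 3))
    have h := hcount ⊤ (fun v _ => mem_top _)
    rw [top_inf_eq, card_top, hn, hgc] at h
    have hg' : g = 0 ∨ g = 6 := by interval_cases g <;> simp_all
    rcases hg' with rfl | rfl
    · exact eq_bot_of_card_eq _ hgc
    · refine absurd (eq_top_of_card_eq _ (hgc.trans hn.symm)) (card_lt_of_moved fun h => ?_)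
      have := orderOf_dvd_of_pow_eq_one h
      rw [hd] at this; norm_num at this
  intro S hS
  obtain ⟨k, hk, hkc⟩ := card_le_six hE hn S
  have h := hcount S (hS d rfl)
  rw [hfix, inf_bot_eq, card_bot, hkc] at h
  have hk' : k = 0 ∨ k = 6 := by interval_cases k <;> simp_all
  rcases hk' with rfl | rfl
  · exact Or.inl (eq_bot_of_card_eq _ hkc)
  · exact Or.inr (eq_top_of_card_eq _ (hkc.trans hn.symm))

/-- A group of exponent 3 and order at least 9 has a commutative subgroup of order 9. -/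
theorem exists_nine {A : Type*} [Group A] [Finite A] {R : Subgroup A} {a : ℕ} (ha : Nat.card R = 3 ^ a)
    (ha2 : 2 ≤ a) (h3 : ∀ c ∈ R, c ^ 3 = 1) :
    ∃ B : Subgroup A, B ≤ R ∧ Nat.card B = 3 ^ 2 ∧ (∀ b : B, b ^ 3 = 1) ∧ ∀ u v : B, u * v = v * u := by
  haveI : Fact (Nat.Prime 3) := ⟨Nat.prime_three⟩
  obtain ⟨B, hB⟩ := Sylow.exists_subgroup_card_pow_prime (G := R) 3 (ha ▸ pow_dvd_pow 3 ha2)
  have hB' : Nat.card (B.map R.subtype) = 3 ^ 2 := (card_map_of_injective R.subtype_injective).trans hB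
  refine ⟨B.map R.subtype, map_subtype_le _, hB', fun b => Subtype.ext (h3 b (map_subtype_le _ b.2)), ?_⟩
  exact IsPGroup.commutative_of_card_eq_prime_sq hB'

/-- A group of order at most 6 is solvable. -/
theorem isSolvable_of_card_le_six {A : Type*} [Group A] [Finite A] (h : Nat.card A ≤ 6) :
    Group.IsSolvable A := by
  obtain ⟨n, hn⟩ : ∃ n, Nat.card A = n := ⟨_, rfl⟩
  have hpos := Nat.card_pos (α := A)
  by_cases h5 : n = 5
  · exact Solvable.isSolvable_of_card_two_primes (p := 5) (q := 2) (by norm_num) Nat.prime_two (by norm_num)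
      fun q hq hd => Or.inl ((Nat.prime_dvd_prime_iff_eq hq (by norm_num)).1 (h5 ▸ hn ▸ hd))
  · refine Solvable.isSolvable_of_card_two_primes Nat.prime_two Nat.prime_three (by norm_num) fun q hq hd => ?_
    have hle := Nat.le_of_dvd hpos hd
    have h2 := hq.two_le
    rw [hn] at hd h hpos hle
    by_contra hne
    simp only [Set.mem_insert_iff, Set.mem_singleton_iff, not_or] at hne
    interval_cases n <;> interval_cases q <;> simp_all <;> norm_num at hq

/-- Frattini's argument inside a normaliser. -/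
theorem exists_sylow_frattini (Y : Subgroup (MulAut E)) (p : ℕ) [Fact p.Prime] :
    ∃ R : Subgroup (MulAut E), R ≤ Y ∧ IsPGroup p R ∧ ¬ p ∣ R.relIndex Y ∧
      ∀ g ∈ normalizer (Y : Set (MulAut E)), ∃ y ∈ Y, y * g ∈ normalizer (R : Set (MulAut E)) := by
  obtain ⟨R'⟩ : Nonempty (Sylow p Y) := inferInstance
  refine ⟨(R' : Subgroup Y).map Y.subtype, map_subtype_le _, R'.2.map _, ?_, fun g hg => ?_⟩
  · rw [relIndex, subgroupOf, comap_map_eq_self_of_injective Y.subtype_injective]
    exact R'.not_dvd_index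
  set R := (R' : Subgroup Y).map Y.subtype with hR
  have hrel : ¬ p ∣ R.relIndex Y := by
    rw [relIndex, hR, subgroupOf, comap_map_eq_self_of_injective Y.subtype_injective]
    exact R'.not_dvd_index
  obtain ⟨y, hy, hle⟩ := Transfer.exists_conj_le_of_not_dvd_relIndex (H := Y) (map_subtype_le _) (R'.2.map _) hrel
    (Q := R.map (MulAut.conj g).toMonoidHom) (by
      rintro _ ⟨r, hr, rfl⟩
      exact (mem_normalizer_iff.1 hg r).1 (map_subtype_le _ hr)) ((R'.2.map _).map _)
  refine ⟨y, hy, ?_⟩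
  rw [map_map] at hle
  have heq : R.map (MulAut.conj (y * g)).toMonoidHom = R := by
    refine eq_of_le_of_card_ge ?_ ?_
    · rw [map_mul]; exact hle
    · exact le_of_eq (Nat.card_congr (R.equivMapOfInjective _ (MulAut.conj (y * g)).injective).toEquiv)
  rw [mem_normalizer_iff]
  intro r
  conv_rhs => rw [← heq]
  exact (mem_map_iff_mem (f := (MulAut.conj (y * g)).toMonoidHom) (MulAut.conj (y * g)).injective).symm

/-- A lift of a prime-order element of a quotient can be taken of prime power order. -/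
theorem exists_primary_lift {A B : Type*} [Group A] [Finite A] [Group B] (f : A →* B) {q : ℕ} (hq : q.Prime)
    {b : B} (hb : orderOf b = q) (hbr : b ∈ f.range) :
    ∃ x : A, f x ≠ 1 ∧ ∃ k, x ^ q ^ k = 1 := by
  obtain ⟨g, rfl⟩ := hbr
  obtain ⟨a, m, hm, ho⟩ := Nat.exists_eq_pow_mul_and_not_dvd (orderOf_pos g).ne' q hq.ne_one
  refine ⟨g ^ m, fun h => hm ?_, a, by rw [← pow_mul, mul_comm, ← ho, pow_orderOf_eq_one]⟩
  rw [← hb]
  exact orderOf_dvd_of_pow_eq_one (by rw [← map_pow]; exact h)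

/-- A `q`-element normalising a `p`-group with no two orders congruent mod `q` centralises it. -/
theorem centralizes_of_modEq {A : Type*} [Group A] [Finite A] {R : Subgroup A} {p q a k : ℕ} (hp : p.Prime)
    (hq : q.Prime) (hR : Nat.card R = p ^ a) (hcong : ∀ i < a, p ^ a % q ≠ p ^ i % q)
    {x : normalizer (R : Set A)} (hx : (x : A) ^ q ^ k = 1) : (x : A) ∈ centralizer (R : Set A) := by
  have h := card_fix_modEq (x := R.normalizerMonoidHom x) hq (k := k) (by
    rw [← map_pow, show x ^ q ^ k = 1 from Subtype.ext hx, map_one]) (W := (⊤ : Subgroup R))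
    (fun v _ => mem_top _)
  rw [top_inf_eq, card_top, hR] at h
  obtain ⟨i, hi, hic⟩ := (Nat.dvd_prime_pow hp).1 (hR ▸ card_subgroup_dvd_card (fix (R.normalizerMonoidHom x)))
  rw [hic] at h
  have hia : i = a := by
    by_contra hne
    exact hcong i (lt_of_le_of_ne hi hne) h
  have htop := eq_top_of_card_eq _ (hic.trans (hia ▸ hR.symm))
  have hker : x ∈ R.normalizerMonoidHom.ker := MulEquiv.ext fun v => mem_fix.1 (htop.ge (mem_top v))
  rw [normalizerMonoidHom_ker] at hker
  exact hker

/-- Transitivity gives divisibility. -/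
theorem card_pred_dvd {Y : Subgroup (MulAut E)}
    (htr : ∀ e e' : E, e ≠ 1 → e' ≠ 1 → ∃ y ∈ Y, y e = e') {e₀ : E} (he : e₀ ≠ 1) :
    Nat.card E - 1 ∣ Nat.card Y := by
  classical
  letI : MulAction Y E := MulAction.compHom E Y.subtype
  have horb : MulAction.orbit Y e₀ = {e : E | e ≠ 1} := by
    ext e
    constructor
    · rintro ⟨y, rfl⟩ h
      exact he ((y : MulAut E).injective (h.trans (map_one _).symm))
    · intro h
      obtain ⟨y, hy, rfl⟩ := htr e₀ e he h
      exact ⟨⟨y, hy⟩, rfl⟩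
  have hc : Nat.card (MulAction.orbit Y e₀) = Nat.card E - 1 := by
    rw [horb, show ({e : E | e ≠ 1} : Set E) = ({1} : Set E)ᶜ from rfl, Nat.card_coe_set_eq,
      Set.ncard_compl, Set.ncard_singleton]
  rw [← hc, Nat.card_congr (MulAction.orbitEquivQuotientStabilizer Y e₀)]
  exact card_quotient_dvd_card _

theorem primes_of_card_GL_six {q : ℕ} (hq : q.Prime) (h : q ∣ Nat.card (GL (Fin 6) (ZMod 2))) :
    q = 2 ∨ q = 3 ∨ q = 5 ∨ q = 7 ∨ q = 31 := by
  haveI : Fact (Nat.Prime 2) := ⟨Nat.prime_two⟩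
  rw [Matrix.card_GL_field] at h
  replace h : q ∣ 2 ^ 15 * 3 ^ 4 * 5 * 7 ^ 2 * 31 := by
    norm_num [Fin.prod_univ_succ, ZMod.card] at h ⊢
    exact h
  have step : ∀ r : ℕ, r.Prime → ∀ i, q ∣ r ^ i → q = r := fun r hr i hd =>
    (Nat.prime_dvd_prime_iff_eq hq hr).1 (hq.dvd_of_dvd_pow hd)
  rcases (Nat.Prime.dvd_mul hq).1 h with h | h
  · rcases (Nat.Prime.dvd_mul hq).1 h with h | h
    · rcases (Nat.Prime.dvd_mul hq).1 h with h | h
      · rcases (Nat.Prime.dvd_mul hq).1 h with h | h
        · exact Or.inl (step 2 Nat.prime_two 15 h)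
        · exact Or.inr (Or.inl (step 3 Nat.prime_three 4 h))
      · exact Or.inr (Or.inr (Or.inl ((Nat.prime_dvd_prime_iff_eq hq (by norm_num)).1 h)))
    · exact Or.inr (Or.inr (Or.inr (Or.inl (step 7 (by norm_num) 2 h))))
  · exact Or.inr (Or.inr (Or.inr (Or.inr ((Nat.prime_dvd_prime_iff_eq hq (by norm_num)).1 h))))


/-- `N(Y)/Y` is solvable for `Y` transitive on the nonidentity elements. -/
theorem isSolvable_quotient (hE : ∀ e : E, e * e = 1) (h4 : 4 < Nat.card E) (Y : Subgroup (MulAut E))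
    (htr : ∀ e e' : E, e ≠ 1 → e' ≠ 1 → ∃ y ∈ Y, y e = e') :
    Group.IsSolvable (↥(normalizer (Y : Set (MulAut E))) ⧸ Y.subgroupOf (normalizer (Y : Set (MulAut E)))) := by
  classical
  obtain ⟨n, hn⟩ := exists_card_eq hE (⊤ : Subgroup E)
  rw [card_top] at hn
  have hn2 : 2 < n := by
    by_contra h
    have := Nat.pow_le_pow_right (show 0 < 2 by norm_num) (Nat.not_lt.1 h)
    omega
  haveI : Nontrivial E := Finite.one_lt_card_iff_nontrivial.1 (by omega)
  obtain ⟨e₀, he₀⟩ := exists_ne (1 : E)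
  have hY : 2 ^ n - 1 ∣ Nat.card Y := hn ▸ card_pred_dvd htr he₀
  set M := normalizer (Y : Set (MulAut E))
  set π := QuotientGroup.mk' (Y.subgroupOf M)
  -- a Sylow normaliser covers the quotient
  have hcov : ∀ R : Subgroup (MulAut E),
      (∀ g ∈ M, ∃ y ∈ Y, y * g ∈ normalizer (R : Set (MulAut E))) →
      ∀ b, b ∈ (π.comp ((normalizer (R : Set (MulAut E))).subgroupOf M).subtype).range := fun R hR b => by
    obtain ⟨g, rfl⟩ := QuotientGroup.mk'_surjective _ b
    obtain ⟨y, hy, hyg⟩ := hR g g.2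
    have hyM : y ∈ M := le_normalizer hy
    refine ⟨⟨⟨y * g, mul_mem hyM g.2⟩, hyg⟩, ?_⟩
    show π (⟨y, hyM⟩ * g) = π g
    rw [map_mul, show π ⟨y, hyM⟩ = 1 from (QuotientGroup.eq_one_iff _).2 hy, one_mul]
  by_cases h6 : n = 6
  · subst h6
    haveI : Fact (Nat.Prime 3) := ⟨Nat.prime_three⟩
    haveI : Fact (Nat.Prime 7) := ⟨by norm_num⟩
    have hGL : Nat.card (MulAut E) = Nat.card (GL (Fin 6) (ZMod 2)) := card_mulAut_elementary hE hn
    have hGL' : Nat.card (GL (Fin 6) (ZMod 2)) = 2 ^ 15 * 3 ^ 4 * 5 * 7 ^ 2 * 31 := by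
      haveI : Fact (Nat.Prime 2) := ⟨Nat.prime_two⟩
      rw [Matrix.card_GL_field]
      norm_num [Fin.prod_univ_succ, ZMod.card]
    have hbound : ∀ p b : ℕ, ¬ p ^ (b + 1) ∣ 2 ^ 15 * 3 ^ 4 * 5 * 7 ^ 2 * 31 → ∀ (R : Subgroup (MulAut E)) a,
        Nat.card R = p ^ a → a ≤ b := fun p b hb R a ha => by
      by_contra hab
      exact hb ((pow_dvd_pow p (Nat.not_le.1 hab)).trans (ha ▸ hGL' ▸ hGL ▸ card_subgroup_dvd_card R))
    have hprimes : ∀ q : ℕ, q.Prime → q ∣ Nat.card (↥M ⧸ Y.subgroupOf M) →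
        q = 2 ∨ q = 3 ∨ q = 5 ∨ q = 7 ∨ q = 31 := fun q hq h => primes_of_card_GL_six hq
      (hGL ▸ (h.trans (card_quotient_dvd_card _)).trans (card_subgroup_dvd_card M))
    -- the normaliser of a Sylow 7-subgroup excludes 5 and 31
    obtain ⟨R₇, hR₇Y, hR₇p, hR₇r, hR₇f⟩ := exists_sylow_frattini Y 7
    obtain ⟨a₇, ha₇⟩ := IsPGroup.iff_card.1 hR₇p
    have ha₇0 : a₇ ≠ 0 := by
      rintro rfl
      have h63 : 63 ∣ Nat.card Y := by simpa using hY
      rw [← relIndex_bot_left, ← relIndex_mul_relIndex ⊥ R₇ Y bot_le hR₇Y, relIndex_bot_left, ha₇,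
        pow_zero, one_mul] at h63
      exact hR₇r ((show 7 ∣ 63 by norm_num).trans h63)
    have ha₇2 : a₇ ≤ 2 := hbound 7 2 (by norm_num) R₇ a₇ ha₇
    have h531 : ∀ q, q.Prime → q ∣ Nat.card (↥M ⧸ Y.subgroupOf M) → q ≠ 5 ∧ q ≠ 31 := by
      intro q hq hd
      suffices h : ¬ (q = 5 ∨ q = 31) from not_or.1 h
      intro hq'
      haveI := Fact.mk hq
      obtain ⟨b, hb⟩ := exists_prime_orderOf_dvd_card' q hd
      obtain ⟨x, hx1, k, hxk⟩ := exists_primary_lift _ hq hb (hcov R₇ hR₇f b)
      have hxk' : (((x : M) : MulAut E)) ^ q ^ k = 1 := by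
        simpa using congrArg Subtype.val (congrArg Subtype.val hxk)
      have hxne : ((x : M) : MulAut E) ≠ 1 := fun h => hx1 (by
        rw [show x = 1 from Subtype.ext (Subtype.ext h), map_one])
      have hc := centralizes_of_modEq (by norm_num : Nat.Prime 7) hq ha₇ (x := ⟨((x : M) : MulAut E), x.2⟩)
        (fun i hi => by rcases hq' with rfl | rfl <;> interval_cases a₇ <;> interval_cases i <;> norm_num) hxk'
      obtain ⟨c, hc1⟩ := Subgroup.ne_bot_iff_exists_ne_one.1 (fun h : R₇ = ⊥ => ha₇0 (by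
        rw [h, card_bot] at ha₇
        exact (Nat.pow_eq_one.1 ha₇.symm).resolve_left (by norm_num)))
      exact not_five_seven hE hn hq hq' hxk' hxne (c := (c : MulAut E)) (l := a₇)
        (by rw [← ha₇]; exact congrArg Subtype.val (pow_card_eq_one' (x := c)))
        (fun h => hc1 (Subtype.ext h)) (mem_centralizer_iff.1 hc c c.2).symm
    -- the normaliser of a Sylow 3-subgroup
    obtain ⟨R, hRY, hRp, hRr, hRf⟩ := exists_sylow_frattini Y 3
    obtain ⟨a, ha⟩ := IsPGroup.iff_card.1 hRp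
    have ha4 : a ≤ 4 := hbound 3 4 (by norm_num) R a ha
    have ha2 : 2 ≤ a := by
      by_contra h
      have h63 : 63 ∣ Nat.card Y := by simpa using hY
      rw [← relIndex_bot_left, ← relIndex_mul_relIndex ⊥ R Y bot_le hRY, relIndex_bot_left, ha] at h63
      interval_cases a
      · rw [pow_zero, one_mul] at h63
        exact hRr ((show 3 ∣ 63 by norm_num).trans h63)
      · exact hRr (Nat.dvd_of_mul_dvd_mul_left (show 0 < 3 by norm_num)
          ((show 3 * 3 ∣ 63 by norm_num).trans (by rwa [pow_one] at h63)))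
    set N := (normalizer (R : Set (MulAut E))).subgroupOf M
    set C := (centralizer (R : Set (MulAut E))).subgroupOf M
    set H := C.map π
    have hCN : C ≤ N := comap_mono (centralizer_le_normalizer _)
    haveI : H.Normal := ⟨fun h hh b => by
      obtain ⟨c, hc, rfl⟩ := hh
      obtain ⟨⟨g, hg⟩, rfl⟩ := hcov R hRf b
      refine ⟨g * c * g⁻¹, ?_, by simp [π]⟩
      exact mem_centralizer_iff.2 fun r hr => by
        have h1 : (g : MulAut E)⁻¹ * r * g ∈ R := by
          have := (mem_normalizer_iff.1 (inv_mem hg) r).1 hr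
          simpa using this
        have h2 := mem_centralizer_iff.1 hc _ h1
        show r * ((g : MulAut E) * c * (g : MulAut E)⁻¹) = (g : MulAut E) * c * (g : MulAut E)⁻¹ * r
        calc r * ((g : MulAut E) * c * (g : MulAut E)⁻¹)
            = g * ((((g : MulAut E)⁻¹ * r * g) * c)) * (g : MulAut E)⁻¹ := by group
          _ = g * (c * ((g : MulAut E)⁻¹ * r * g)) * (g : MulAut E)⁻¹ :=
              congrArg (fun t : MulAut E => (g : MulAut E) * t * (g : MulAut E)⁻¹) h2
          _ = _ := by group⟩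
    have h7 : ∀ x : N, (∃ k, x ^ 7 ^ k = 1) → (((x : M) : MulAut E)) ∈ centralizer (R : Set (MulAut E)) := by
      rintro x ⟨k, hxk⟩
      exact centralizes_of_modEq (q := 7) (k := k) Nat.prime_three (by norm_num) ha
        (x := ⟨((x : M) : MulAut E), x.2⟩)
        (fun i hi => by interval_cases a <;> interval_cases i <;> norm_num)
        (by simpa using congrArg Subtype.val (congrArg Subtype.val hxk))
    have two : ∀ {K : Type _} [Group K] [Finite K], (Nat.card K ∣ Nat.card (↥M ⧸ Y.subgroupOf M)) →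
        ¬ 7 ∣ Nat.card K → Group.IsSolvable K := fun {K} _ _ hd h7' =>
      Solvable.isSolvable_of_card_two_primes Nat.prime_two Nat.prime_three (by norm_num) fun q hq hqd => by
        have h := h531 q hq (hqd.trans hd)
        rcases hprimes q hq (hqd.trans hd) with e | e | e | e | e
        · exact Or.inl e
        · exact Or.inr e
        · exact absurd e h.1
        · exact absurd (e ▸ hqd) h7'
        · exact absurd e h.2
    have hQH : Group.IsSolvable ((↥M ⧸ Y.subgroupOf M) ⧸ H) := two (card_quotient_dvd_card _) fun hd => by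
      obtain ⟨b, hb⟩ := exists_prime_orderOf_dvd_card' 7 hd
      obtain ⟨x, hx1, hxk⟩ := exists_primary_lift ((QuotientGroup.mk' H).comp (π.comp N.subtype))
        (q := 7) (by norm_num) hb (by
          obtain ⟨b', rfl⟩ := QuotientGroup.mk'_surjective H b
          obtain ⟨g, hg⟩ := hcov R hRf b'
          exact ⟨g, congrArg (QuotientGroup.mk' H) hg⟩)
      exact hx1 ((QuotientGroup.eq_one_iff _).2 (mem_map_of_mem π (h7 x hxk)))
    have hH : Group.IsSolvable H := by
      by_cases h9 : ∃ c ∈ R, c ^ 3 ≠ 1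
      · obtain ⟨c, hcR, hc3⟩ := h9
        obtain ⟨i, hi, hio⟩ := (Nat.dvd_prime_pow Nat.prime_three).1 (ha ▸ R.orderOf_dvd_natCard hcR)
        have hi2 : 2 ≤ i := by
          by_contra h
          exact hc3 (orderOf_dvd_iff_pow_eq_one.1 (hio ▸ (pow_dvd_pow 3 (show i ≤ 1 by omega)).trans (dvd_of_eq (pow_one 3))))
        set d := c ^ 3 ^ (i - 2)
        have hd9 : orderOf d = 9 := by
          have h : orderOf c = 3 ^ (i - 2) * 9 := by
            rw [hio, show (9 : ℕ) = 3 ^ 2 from rfl, ← pow_add, Nat.sub_add_cancel hi2]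
          show orderOf (c ^ 3 ^ (i - 2)) = 9
          rw [orderOf_pow' _ (by positivity), h, Nat.gcd_eq_right (Dvd.intro _ rfl),
            Nat.mul_div_cancel_left _ (by positivity)]
        haveI := centralizer_cyclic_of_irreducible ({d} : Set (MulAut E)) (irreducible_of_nine hE hn hd9)
        have hle : C.map M.subtype ≤ centralizer ({d} : Set (MulAut E)) := by
          rintro _ ⟨g, hg, rfl⟩
          exact centralizer_le (Set.singleton_subset_iff.2 (pow_mem hcR _)) hg
        letI := IsCyclic.commGroup (α := centralizer ({d} : Set (MulAut E)))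
        refine Group.isSolvable_of_comm fun u v => Subtype.ext ?_
        obtain ⟨⟨u', hu'⟩, hu⟩ := (⟨u.1, u.2⟩ : {b // b ∈ H})
        obtain ⟨v', hv', hv⟩ := v.2
        obtain ⟨u', hu', hu⟩ := u.2
        rw [Subgroup.coe_mul, Subgroup.coe_mul, ← hu, ← hv, ← map_mul, ← map_mul]
        congr 1
        refine Subtype.ext (show (u' : MulAut E) * v' = v' * u' from congrArg Subtype.val (mul_comm
          (⟨(u' : MulAut E), hle ⟨u', hu', rfl⟩⟩ : centralizer ({d} : Set (MulAut E))) ⟨v', hle ⟨v', hv', rfl⟩⟩))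
      · push Not at h9
        obtain ⟨B, hBR, hB, hB3, hBc⟩ := exists_nine ha ha2 h9
        refine two (card_subgroup_dvd_card H) fun hd => ?_
        obtain ⟨b, hb⟩ := exists_prime_orderOf_dvd_card' 7 hd
        obtain ⟨x, hx1, k, hxk⟩ := exists_primary_lift (π.comp C.subtype) (q := 7) (by norm_num)
          (b := (b : ↥M ⧸ Y.subgroupOf M)) (by rw [← hb, Subgroup.orderOf_coe]) (by
            obtain ⟨g, hg, e⟩ := b.2
            exact ⟨⟨g, hg⟩, e⟩)
        exact not_seven_three hE hn (x := ((x : M) : MulAut E)) (k := k)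
          (by simpa using congrArg Subtype.val (congrArg Subtype.val hxk))
          (fun h => hx1 (by rw [show x = 1 from Subtype.ext (Subtype.ext h), map_one])) hB hB3 hBc
          (fun r => (mem_centralizer_iff.1 x.2 r (hBR r.2)).symm)
    exact isSolvable_of_hom (QuotientGroup.mk' H)
      (isSolvable_of_le (K := ⊤) (Group.isSolvable_of_surjective (f := (topEquiv.symm :
        ((↥M ⧸ Y.subgroupOf M) ⧸ H) ≃* _).toMonoidHom) (MulEquiv.surjective _)) le_top)
      (by rw [QuotientGroup.ker_mk']; exact hH)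
  · obtain ⟨p, hp, hpn, hprim⟩ := Cfsg.Agent.S2904.result 2 n (by norm_num) (by omega) (fun h => h6 h.2)
      (fun h => by omega)
    haveI := Fact.mk hp
    obtain ⟨R, hRY, hRp, hRr, hRf⟩ := exists_sylow_frattini Y p
    have hR1 : R ≠ ⊥ := by
      rintro rfl
      rw [relIndex_bot_left] at hRr
      exact hRr (hpn.trans hY)
    haveI : Nontrivial R := (Subgroup.nontrivial_iff_ne_bot R).2 hR1
    haveI := hRp.center_nontrivial
    obtain ⟨z, hz1⟩ := exists_ne (1 : center R)
    have hzp : IsPGroup p (center R) := hRp.to_subgroup _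
    obtain ⟨d, hd⟩ := exists_prime_orderOf_dvd_card' (G := center R) p (by
      obtain ⟨k, hk⟩ := IsPGroup.iff_card.1 hzp
      have hgt := Finite.one_lt_card (α := center R)
      rcases k with _ | k
      · rw [hk, pow_zero] at hgt; omega
      · rw [hk]; exact dvd_pow_self p k.succ_ne_zero)
    have hd' : (((d : R) : MulAut E)) ^ p = 1 := by
      rw [← hd]
      exact congrArg (fun t : center R => ((t : R) : MulAut E)) (pow_orderOf_eq_one d)
    have hd1 : ((d : R) : MulAut E) ≠ 1 := fun h => hp.ne_one (by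
      rw [← hd, show d = 1 from Subtype.ext (Subtype.ext h), orderOf_one])
    haveI := isSolvable_normalizer_of_irreducible (d.1.2) (fun r hr =>
      congrArg Subtype.val (mem_center_iff.1 d.2 ⟨r, hr⟩).symm)
      (irreducible_of_primitive hE hn hp hpn hprim hd' hd1)
    haveI : Group.IsSolvable ((normalizer (R : Set (MulAut E))).subgroupOf M) :=
      solvable_of_solvable_injective (f := (M.subtype.comp ((normalizer (R : Set (MulAut E))).subgroupOf M).subtype).codRestrict
        (normalizer (R : Set (MulAut E))) fun x => x.2)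
        fun u v h => Subtype.ext (Subtype.ext (congrArg Subtype.val h :))
    exact solvable_of_surjective (f := π.comp ((normalizer (R : Set (MulAut E))).subgroupOf M).subtype)
      fun b => hcov R hRf b

/-- A group normalising a transitive group and one of its Sylow 2-subgroups is solvable. -/
theorem isSolvable_of_normalizes (hE : ∀ e : E, e * e = 1) {T Y X : Subgroup (MulAut E)}
    (htr : ∀ e e' : E, e ≠ 1 → e' ≠ 1 → ∃ y ∈ Y, y e = e') (hTY : T ≤ Y) (hT : IsPGroup 2 T)
    (hrel : ¬ 2 ∣ T.relIndex Y) (hXY : X ≤ normalizer (Y : Set (MulAut E)))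
    (hXT : X ≤ normalizer (T : Set (MulAut E))) : Group.IsSolvable X := by
  by_cases h4 : 4 < Nat.card E
  · haveI := isSolvable_quotient hE h4 Y htr
    set f := (QuotientGroup.mk' (Y.subgroupOf (normalizer (Y : Set (MulAut E))))).comp (inclusion hXY)
    refine isSolvable_of_hom f (solvable_of_solvable_injective f.range.subtype_injective) ?_
    haveI := isSolvable_inf_normalizer hTY hT hrel
    have hker : ∀ x : f.ker, ((x : X) : MulAut E) ∈ Y ⊓ normalizer (T : Set (MulAut E)) := fun x => by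
      have h : inclusion hXY (x : X) ∈ Y.subgroupOf (normalizer (Y : Set (MulAut E))) :=
        (QuotientGroup.eq_one_iff _).1 x.2
      exact ⟨h, hXT (x : X).2⟩
    exact solvable_of_solvable_injective (f := (X.subtype.comp f.ker.subtype).codRestrict _ hker)
      (fun a b h => Subtype.ext (Subtype.ext (congrArg Subtype.val h :)))
  · have h6 := HallHigman.card_mulAut_le_six (W := E) (Nat.not_lt.1 h4)
    exact isSolvable_of_card_le_six ((Nat.card_le_card_of_injective _ X.subtype_injective).trans h6)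

end Cfsg.Agent.OutCriteria
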