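import Cfsg.Agent.Lib.OutCriteria.Aniso
import Cfsg.Agent.Lib.PGroup.Critical

/-!
# Automorphisms fixing the involutions of a 2-group (owner: helper64)

* `isSolvable_fix_involutions`: if the involutions of a 2-group `P` are central and `Aut P` is transitive
  on them, the automorphisms fixing all of them form a solvable group
-/

set_option autoImplicit false

namespace Cfsg.Agent.OutCriteria

open Subgroup

open scoped commutatorElement

theorem isSolvable_fix_involutions {P : Type*} [Group P] [Finite P] (hP : IsPGroup 2 P)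
    (hc : ∀ x : P, x ^ 2 = 1 → ∀ y, x * y = y * x)
    (htr : ∀ x y : P, x ^ 2 = 1 → y ^ 2 = 1 → x ≠ 1 → y ≠ 1 → ∃ f : MulAut P, f x = y)
    (K : Subgroup (MulAut P)) (hK : ∀ f, f ∈ K ↔ ∀ x : P, x ^ 2 = 1 → f x = x) : Group.IsSolvable K := by
  classical
  haveI : Fact (Nat.Prime 2) := ⟨Nat.prime_two⟩
  -- the involutions
  let E : Subgroup P :=
    { carrier := {x | x ^ 2 = 1}
      one_mem' := one_pow 2
      mul_mem' := fun {x y} hx hy => by
        show (x * y) ^ 2 = 1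
        rw [(show Commute x y from hc x hx y).mul_pow, hx, hy, one_mul]
      inv_mem' := fun {x} hx => by
        show x⁻¹ ^ 2 = 1
        rw [inv_pow, hx, inv_one] }
  have hEm : ∀ {x}, x ∈ E ↔ x ^ 2 = 1 := Iff.rfl
  -- a critical subgroup
  obtain ⟨C, hC⟩ := PGroup.exists_critical hP
  haveI := hC.char
  set Z := centralizer (C : Set P) with hZ
  have hZC : Z ≤ C := hC.self_centralizing
  have hZc : ∀ z ∈ Z, ∀ x ∈ C, x * z = z * x := fun z hz x hx => mem_centralizer_iff.1 hz x hx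
  have hEZ : E ≤ Z := fun x hx => mem_centralizer_iff.2 fun y _ => (hc x hx y).symm
  -- squares of commutators vanish
  let c : P → P → P := fun x y => x⁻¹ * y * x * y⁻¹
  have hcZ : ∀ x ∈ C, ∀ y, c x y ∈ Z := fun x hx y => by
    have h := (hC.comm_mem _ (inv_mem hx) y).2
    rwa [commutatorElement_def, inv_inv] at h
  have hc2 : ∀ x ∈ C, ∀ y ∈ C, c x y ∈ E := fun x hx y hy => by
    have h1 : x⁻¹ * y * x = c x y * y := by simp [c, mul_assoc]
    have hcy : Commute (c x y) y := (hZc _ (hcZ x hx y) y hy).symm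
    have h2 : (c x y) ^ 2 * y ^ 2 = y ^ 2 := by
      rw [← hcy.mul_pow, ← h1, pow_two, pow_two,
        show x⁻¹ * y * x * (x⁻¹ * y * x) = x⁻¹ * (y * y) * x by group, ← pow_two, mul_assoc,
        ← hZc _ (hC.pow_mem y hy) x hx, inv_mul_cancel_left]
    exact mul_eq_right.1 h2
  have hsqmul : ∀ x ∈ C, ∀ y ∈ C, (x * y) ^ 2 = x ^ 2 * y ^ 2 * c x y := fun x hx y hy => by
    have h1 : (x * y) ^ 2 = x ^ 2 * c x y * y ^ 2 := by simp [c, pow_two, mul_assoc]
    rw [h1, mul_assoc (x ^ 2) (c x y), ← hZc _ (hcZ x hx y) _ (pow_mem hy 2), ← mul_assoc]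
  let U : Subgroup P :=
    { carrier := {x | x ∈ C ∧ x ^ 2 ∈ E}
      one_mem' := ⟨one_mem _, by rw [one_pow]; exact one_mem _⟩
      mul_mem' := fun {x y} hx hy => ⟨mul_mem hx.1 hy.1, by
        rw [hsqmul x hx.1 y hy.1]
        exact mul_mem (mul_mem hx.2 hy.2) (hc2 x hx.1 y hy.1)⟩
      inv_mem' := fun {x} hx => ⟨inv_mem hx.1, by rw [inv_pow]; exact inv_mem hx.2⟩ }
  have hEU : E ≤ U := fun x hx => ⟨hZC (hEZ hx), by rw [hEm.1 hx]; exact one_mem _⟩
  have hEinv : ∀ (f : MulAut P), ∀ x ∈ E, f x ∈ E := fun f x hx => by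
    rw [hEm] at hx ⊢; rw [← map_pow, hx, map_one]
  have hUinv : ∀ (f : MulAut P), ∀ x ∈ U, f x ∈ U := fun f x hx =>
    ⟨(PGroup.aut_mem_iff f x).2 hx.1, by rw [← map_pow]; exact hEinv f _ hx.2⟩
  -- `V = U / E`
  let E' : Subgroup U := E.subgroupOf U
  haveI : E'.Normal := ⟨fun n hn g => by
    have h : g * n = n * g := Subtype.ext (hc _ hn g).symm
    rw [h, mul_inv_cancel_right]; exact hn⟩
  let V := U ⧸ E'
  letI : CommGroup V :=
    { (inferInstance : Group (U ⧸ E')) with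
      mul_comm := fun a b => by
        obtain ⟨x, rfl⟩ := QuotientGroup.mk_surjective a
        obtain ⟨y, rfl⟩ := QuotientGroup.mk_surjective b
        rw [← QuotientGroup.mk_mul, ← QuotientGroup.mk_mul]
        refine QuotientGroup.eq.2 ?_
        show ((x : P) * y)⁻¹ * ((y : P) * x) ∈ E
        have h : ((x : P) * y)⁻¹ * ((y : P) * x) = (y : P)⁻¹ * (c x y) * y := by simp [c, mul_assoc]
        rw [h, mul_assoc, hc _ (hc2 x x.2.1 y y.2.1), inv_mul_cancel_left]
        exact hc2 x x.2.1 y y.2.1 }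
  letI : CommGroup E :=
    { (inferInstance : Group E) with mul_comm := fun a b => Subtype.ext (hc a a.2 b) }
  have hV : ∀ v : V, v * v = 1 := fun v => by
    obtain ⟨x, rfl⟩ := QuotientGroup.mk_surjective v
    rw [← QuotientGroup.mk_mul, QuotientGroup.eq_one_iff]
    show (x : P) * x ∈ E
    rw [← pow_two]; exact x.2.2
  have hE2 : ∀ e : E, e * e = 1 := fun e => Subtype.ext (by
    show (e : P) * e = 1
    rw [← pow_two]; exact e.2)
  let q : V → E := Quotient.lift (fun x : U => (⟨(x : P) ^ 2, x.2.2⟩ : E)) fun a b hab => by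
    have hm' : a⁻¹ * b ∈ E' := QuotientGroup.leftRel_apply.1 hab
    have hm : ((a⁻¹ * b : U) : P) ∈ E := hm'
    refine Subtype.ext ?_
    show (a : P) ^ 2 = (b : P) ^ 2
    have e : (b : P) = a * ((a⁻¹ * b : U) : P) := by simp
    rw [e, (show Commute (a : P) ((a⁻¹ * b : U) : P) from (hc _ hm a).symm).mul_pow, hEm.1 hm, mul_one]
  have hqv : ∀ x : U, ((q (x : V) : E) : P) = (x : P) ^ 2 := fun x => rfl
  have hqmul : ∀ x y : U, q ((x : V) * y) = q x * q y * ⟨c x y, hc2 x x.2.1 y y.2.1⟩ := fun x y =>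
    Subtype.ext (hsqmul x x.2.1 y y.2.1)
  have hcmul : ∀ x y z : U, c ((x * y : U) : P) z = c x z * c y z := fun x y z => by
    have h : (y : P)⁻¹ * c x z = c x z * (y : P)⁻¹ :=
      (hc _ (hc2 x x.2.1 z z.2.1) _).symm
    calc c ((x * y : U) : P) z = (y : P)⁻¹ * c x z * ((z : P) * y * (z : P)⁻¹) := by
          simp [c, mul_assoc]
      _ = c x z * ((y : P)⁻¹ * ((z : P) * y * (z : P)⁻¹)) := by rw [h, mul_assoc]
      _ = _ := by simp [c, mul_assoc]
  have hb : ∀ u v w : V, q (u * v * w) * q (u * v) * q (u * w) * q (v * w) * q u * q v * q w = 1 := by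
    intro u v w
    obtain ⟨x, rfl⟩ := QuotientGroup.mk_surjective u
    obtain ⟨y, rfl⟩ := QuotientGroup.mk_surjective v
    obtain ⟨z, rfl⟩ := QuotientGroup.mk_surjective w
    rw [← QuotientGroup.mk_mul, hqmul (x * y) z, hqmul x z, hqmul y z]
    have e : (⟨c ((x * y : U) : P) z, hc2 _ (x * y).2.1 z z.2.1⟩ : E) =
        ⟨c x z, hc2 x x.2.1 z z.2.1⟩ * ⟨c y z, hc2 y y.2.1 z z.2.1⟩ := Subtype.ext (hcmul x y z)
    rw [e, QuotientGroup.mk_mul]
    generalize q (x : V) = a, q (y : V) = b, q (z : V) = d, q ((x : V) * y) = g,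
      (⟨c x z, hc2 x x.2.1 z z.2.1⟩ : E) = i, (⟨c y z, hc2 y y.2.1 z z.2.1⟩ : E) = j
    calc g * d * (i * j) * g * (a * d * i) * (b * d * j) * a * b * d
        = (g * g) * (a * a) * (b * b) * ((d * d) * (d * d)) * (i * i) * (j * j) := by ac_rfl
      _ = 1 := by simp only [hE2]
  have hani : ∀ v, q v = 1 → v = 1 := fun v hv => by
    obtain ⟨x, rfl⟩ := QuotientGroup.mk_surjective v
    exact (QuotientGroup.eq_one_iff _).2 (congrArg Subtype.val hv)
  -- the three restrictions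
  let rU : MulAut P →* MulAut U := FPF.resAct (MonoidHom.id (MulAut P)) U hUinv
  let rE : MulAut P →* MulAut E := FPF.resAct (MonoidHom.id (MulAut P)) E hEinv
  have hE'inv : FPF.Inv rU E' := fun f x hx => hEinv f _ hx
  let rV : MulAut P →* MulAut V := FPF.quotAct rU E' hE'inv
  have hqr : ∀ f v, q (rV f v) = rE f (q v) := fun f v => by
    obtain ⟨x, rfl⟩ := QuotientGroup.mk_surjective v
    exact Subtype.ext (map_pow f (x : P) 2).symm
  have hrE : ∀ f ∈ K, rE f = 1 := fun f hf => MulEquiv.ext fun e => Subtype.ext ((hK f).1 hf e e.2)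
  -- the image on `V` is solvable
  have hL : Group.IsSolvable (K.map rV) := by
    refine isSolvable_of_anisotropic hV hE2 q hb hani (K.map rV) ?_ ?_
    · rintro _ ⟨f, hf, rfl⟩ v
      rw [hqr, hrE f hf, MulAut.one_apply]
    · intro e e' he he'
      obtain ⟨f, hf⟩ := htr e e' e.2 e'.2 (fun h => he (Subtype.ext h)) (fun h => he' (Subtype.ext h))
      refine ⟨rV f, ?_, rE f, hqr f, Subtype.ext hf⟩
      have hmem : ∀ g : MulAut P, ∀ k ∈ K, g * k * g⁻¹ ∈ K := fun g k hk => (hK _).2 fun x hx => by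
        show g (k (g⁻¹ x)) = x
        rw [(hK k).1 hk _ (by rw [← map_pow, hx, map_one]), MulAut.apply_inv_self]
      rw [mem_normalizer_iff]
      intro l
      constructor
      · rintro ⟨k, hk, rfl⟩
        exact ⟨f * k * f⁻¹, hmem f k hk, by simp⟩
      · rintro ⟨k, hk, e⟩
        refine ⟨f⁻¹ * k * f⁻¹⁻¹, hmem f⁻¹ k hk, ?_⟩
        rw [map_mul, map_mul, e, map_inv]; group
  -- nothing of odd order acts trivially on `V`
  refine isSolvable_of_kernel (rV.comp K.subtype) ?_ ?_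
  · exact isSolvable_of_le hL (by rintro _ ⟨f, rfl⟩; exact ⟨f, f.2, rfl⟩)
  intro r hr hr2 f hfr hfV
  refine Subtype.ext ?_
  haveI := Fact.mk hr
  have hcop : Nat.Coprime (orderOf (f : MulAut P)) 2 := by
    have h : orderOf (f : MulAut P) ∣ r := orderOf_dvd_of_pow_eq_one (congrArg Subtype.val hfr)
    exact Nat.Coprime.coprime_dvd_left h ((Nat.coprime_primes hr Nat.prime_two).2 hr2)
  have hfE : ∀ x ∈ E, (f : MulAut P) x = x := fun x hx => (hK _).1 f.2 x hx
  have hfU : ∀ x ∈ U, (f : MulAut P) x = x := fun x hx => by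
    refine PGroup.fixed_of_displacement_fixed hP hcop (hfE _ ?_)
    have h := DFunLike.congr_fun hfV ((⟨x, hx⟩ : U) : V)
    rw [MulAut.one_apply] at h
    have h' : (⟨x, hx⟩ : U)⁻¹ * rU f ⟨x, hx⟩ ∈ E' := QuotientGroup.eq.1 h.symm
    exact h'
  refine PGroup.aut_eq_one_of_fix_selfCentralizing hP hC.self_centralizing hcop ?_
  have hfZ : ∀ z ∈ Z, (f : MulAut P) z = z :=
    PGroup.fixed_of_fix_order_p_abelian hP hcop (fun x hx y hy => hZc y hy x (hZC hx))
      (fun z hz => (PGroup.aut_mem_iff (H := Z) (hH := PGroup.centralizer_characteristic C) _ z).2 hz)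
      fun z _ hz2 => hfE z hz2
  intro x hx
  set d := x⁻¹ * (f : MulAut P) x with hd
  have hdC : d ∈ C := mul_mem (inv_mem hx) ((PGroup.aut_mem_iff _ x).2 hx)
  refine PGroup.fixed_of_displacement_fixed hP hcop (hfU d ⟨hdC, ?_⟩)
  -- `d ^ 2` is an involution
  have h1 : (x * d) * (x * d) = x * x := by
    rw [show x * d = (f : MulAut P) x from mul_inv_cancel_left _ _, ← map_mul, ← pow_two]
    exact hfZ _ (hC.pow_mem x hx)
  have h2 : x⁻¹ * d * x = d⁻¹ := by
    refine eq_inv_of_mul_eq_one_left (mul_left_cancel (a := x * x) ?_)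
    rw [mul_one]
    calc x * x * (x⁻¹ * d * x * d) = x * d * (x * d) := by group
      _ = x * x := h1
  have h3 : x⁻¹ * d ^ 2 * x = d ^ 2 := by
    rw [mul_assoc, ← hZc _ (hC.pow_mem d hdC) x hx, inv_mul_cancel_left]
  have h4 : (d ^ 2)⁻¹ = d ^ 2 := by
    rw [← inv_pow, ← h2, pow_two]
    calc x⁻¹ * d * x * (x⁻¹ * d * x) = x⁻¹ * d ^ 2 * x := by rw [pow_two]; group
      _ = _ := h3
  show (d ^ 2) ^ 2 = 1
  nth_rw 1 [pow_two]
  nth_rw 1 [← h4]
  exact inv_mul_cancel _

end Cfsg.Agent.OutCriteria
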