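import Cfsg.Agent.Lib.OutCriteria.Linear
import Cfsg.Agent.Lib.OutCriteria.OmegaKernel
import Cfsg.Agent.Lib.GlauberAut.Out
import Cfsg.Agent.Lib.Coprime.Basic
import Cfsg.Agent.S4354

/-!
# A Sylow 2-subgroup with commuting, conjugate involutions (owner: helper64)

* `normalizer_conj`: the involutions of `S` fuse in the normaliser of the subgroup they generate
* `isSolvable_of_one_class`: the image of `N_{Aut G}(S)` in `Aut S` is solvable
-/

set_option autoImplicit false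

namespace Cfsg.Agent.OutCriteria

open Subgroup

variable {G : Type*} [Group G] [Finite G] (S : Sylow 2 G)

/-- Fusion of commuting involutions is controlled by the normaliser of the subgroup they form. -/
theorem exists_normalizer_conj (E : Subgroup G)
    (hE : ∀ x, x ∈ E ↔ x ∈ (S : Subgroup G) ∧ x ^ 2 = 1) (hEc : ∀ x ∈ E, ∀ y ∈ E, x * y = y * x)
    {x : G} (hx : x ∈ E) {g : G} (hgx : g * x * g⁻¹ ∈ E) :
    ∃ n ∈ normalizer (E : Set G), n * x * n⁻¹ = g * x * g⁻¹ := by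
  haveI : Fact (Nat.Prime 2) := ⟨Nat.prime_two⟩
  set y := g * x * g⁻¹
  set K := centralizer ({y} : Set G)
  have hE2 : IsPGroup 2 E := fun e => ⟨1, Subtype.ext (by
    show (e : G) ^ 2 ^ 1 = 1
    rw [pow_one]; exact ((hE e).1 e.2).2)⟩
  have hEK : E ≤ K := fun e he => mem_centralizer_singleton_iff.2 (hEc e he y hgx)
  set E₁ := E.map (MulAut.conj g).toMonoidHom
  have hE₁K : E₁ ≤ K := by
    rintro _ ⟨e, he, rfl⟩
    refine mem_centralizer_singleton_iff.2 ?_
    show g * e * g⁻¹ * (g * x * g⁻¹) = g * x * g⁻¹ * (g * e * g⁻¹)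
    calc g * e * g⁻¹ * (g * x * g⁻¹) = g * (e * x) * g⁻¹ := by group
      _ = g * (x * e) * g⁻¹ := by rw [hEc e he x hx]
      _ = _ := by group
  obtain ⟨R, hR⟩ := (hE2.of_equiv (subgroupOfEquivOfLe hEK).symm).exists_le_sylow
  have hRrel : ¬ 2 ∣ ((R : Subgroup K).map K.subtype).relIndex K := by
    rw [relIndex, subgroupOf, comap_map_eq_self_of_injective K.subtype_injective]
    exact R.not_dvd_index
  obtain ⟨c, hcK, hc⟩ := Transfer.exists_conj_le_of_not_dvd_relIndex (H := K) (map_subtype_le _) (R.2.map _)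
    hRrel hE₁K (hE2.map _)
  obtain ⟨Q, hQ⟩ := (R.2.map K.subtype).exists_le_sylow
  obtain ⟨h, hh⟩ := MulAction.exists_smul_eq G Q S
  have hQS : ∀ q ∈ (Q : Subgroup G), h * q * h⁻¹ ∈ (S : Subgroup G) := fun q hq => by
    rw [← hh, Sylow.coe_subgroup_smul]; exact ⟨q, hq, rfl⟩
  -- everything of exponent 2 in `Q` lands in `E`
  have hmove : ∀ e, e ∈ (Q : Subgroup G) → e ^ 2 = 1 → h * e * h⁻¹ ∈ E := fun e he he2 =>
    (hE _).2 ⟨hQS e he, by rw [conj_pow, he2, mul_one, mul_inv_cancel]⟩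
  have hEQ : ∀ e ∈ E, h * e * h⁻¹ ∈ E := fun e he =>
    hmove e (hQ ⟨⟨e, hEK he⟩, hR (mem_subgroupOf.2 he), rfl⟩) ((hE e).1 he).2
  have hE₁Q : ∀ e ∈ E, h * ((c * g) * e * (c * g)⁻¹) * h⁻¹ ∈ E := fun e he => by
    refine hmove _ ?_ (by rw [conj_pow, ((hE e).1 he).2, mul_one, mul_inv_cancel])
    have h1 := hQ (hc ⟨g * e * g⁻¹, ⟨e, he, rfl⟩, rfl⟩)
    rw [show c * g * e * (c * g)⁻¹ = c * (g * e * g⁻¹) * c⁻¹ by group]
    exact h1
  have hn1 : h ∈ normalizer (E : Set G) := Coprime.mem_normalizer_of_forall hEQ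
  have hn2 : h * (c * g) ∈ normalizer (E : Set G) := Coprime.mem_normalizer_of_forall fun e he => by
    have := hE₁Q e he
    rwa [show h * (c * g) * e * (h * (c * g))⁻¹ = h * (c * g * e * (c * g)⁻¹) * h⁻¹ by group]
  refine ⟨c * g, ?_, ?_⟩
  · rw [show c * g = h⁻¹ * (h * (c * g)) by group]
    exact mul_mem (inv_mem hn1) hn2
  · have hcy : c * y = y * c := mem_centralizer_singleton_iff.1 hcK
    rw [show c * g * x * (c * g)⁻¹ = c * y * c⁻¹ by simp [y, mul_assoc], hcy, mul_inv_cancel_right]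

/-- Case (c): the involutions of `S` commute and are conjugate in `G`. -/
theorem isSolvable_of_one_class
    (hcomm : ∀ s ∈ (S : Subgroup G), ∀ t ∈ (S : Subgroup G), s ^ 2 = 1 → t ^ 2 = 1 → s * t = t * s)
    (hconj : ∀ s ∈ (S : Subgroup G), ∀ t ∈ (S : Subgroup G), s ^ 2 = 1 → t ^ 2 = 1 → s ≠ 1 → t ≠ 1 →
      ∃ g : G, g * s * g⁻¹ = t) :
    Group.IsSolvable (GlauberAut.resHom S).range := by
  classical
  haveI : Fact (Nat.Prime 2) := ⟨Nat.prime_two⟩
  let S' := ↥(S : Subgroup G)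
  have hS : IsPGroup 2 S' := S.2
  -- the involutions of `S`
  let E₁ : Subgroup S' :=
    { carrier := {x | x ^ 2 = 1}
      one_mem' := one_pow 2
      mul_mem' := fun {x y} hx hy => by
        have h : Commute x y := Subtype.ext
          (hcomm _ x.2 _ y.2 (congrArg Subtype.val hx) (congrArg Subtype.val hy))
        show (x * y) ^ 2 = 1
        rw [h.mul_pow, hx, hy, one_mul]
      inv_mem' := fun {x} hx => by
        show x⁻¹ ^ 2 = 1
        rw [inv_pow, hx, inv_one] }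
  set E₀ := E₁.map (S : Subgroup G).subtype with hE₀def
  have hE₀ : ∀ x, x ∈ E₀ ↔ x ∈ (S : Subgroup G) ∧ x ^ 2 = 1 := fun x => by
    constructor
    · rintro ⟨e, he, rfl⟩
      exact ⟨e.2, congrArg Subtype.val he⟩
    · exact fun ⟨h1, h2⟩ => ⟨⟨x, h1⟩, Subtype.ext h2, rfl⟩
  have hE₀c : ∀ x ∈ E₀, ∀ y ∈ E₀, x * y = y * x := fun x hx y hy =>
    hcomm x ((hE₀ x).1 hx).1 y ((hE₀ y).1 hy).1 ((hE₀ x).1 hx).2 ((hE₀ y).1 hy).2
  letI : CommGroup E₁ :=
    { (inferInstance : Group E₁) with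
      mul_comm := fun a b => Subtype.ext (Subtype.ext (hE₀c _ ⟨a, a.2, rfl⟩ _ ⟨b, b.2, rfl⟩)) }
  have hE₁sq : ∀ e : E₁, e * e = 1 := fun e => Subtype.ext (by
    show (e : S') * e = 1
    rw [← pow_two]; exact e.2)
  have hE₁inv : FPF.Inv (MonoidHom.id (MulAut S')) E₁ := fun f x hx => by
    show (f x) ^ 2 = 1
    rw [← map_pow, show x ^ 2 = 1 from hx, map_one]
  -- the action of `N(E₀)` on the involutions
  set N := normalizer (E₀ : Set G) with hN
  have hmemN : ∀ (g : N) (e : E₁), (g : G) * ((e : S') : G) * (g : G)⁻¹ ∈ E₀ := fun g e =>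
    (mem_normalizer_iff.1 g.2 _).1 ⟨e, e.2, rfl⟩
  let θf : N → E₁ → E₁ := fun g e =>
    ⟨⟨_, ((hE₀ _).1 (hmemN g e)).1⟩, Subtype.ext ((hE₀ _).1 (hmemN g e)).2⟩
  have hθm : ∀ g g' e, θf (g * g') e = θf g (θf g' e) := fun g g' e => Subtype.ext (Subtype.ext (by
    simp only [θf, Subgroup.coe_mul]; group))
  have hθ1 : ∀ e, θf 1 e = e := fun e => Subtype.ext (Subtype.ext (by simp [θf]))
  let θ : N →* MulAut E₁ :=
    { toFun := fun g =>
        { toFun := θf g
          invFun := θf g⁻¹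
          left_inv := fun e => by rw [← hθm, inv_mul_cancel, hθ1]
          right_inv := fun e => by rw [← hθm, mul_inv_cancel, hθ1]
          map_mul' := fun a b => Subtype.ext (Subtype.ext (by
            show (g : G) * (((a : S') : G) * ((b : S') : G)) * (g : G)⁻¹ =
              (g : G) * ((a : S') : G) * (g : G)⁻¹ * ((g : G) * ((b : S') : G) * (g : G)⁻¹)
            group)) }
      map_one' := MulEquiv.ext hθ1
      map_mul' := fun g g' => MulEquiv.ext (hθm g g') }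
  have hSN : (S : Subgroup G) ≤ N := fun s hs => Coprime.mem_normalizer_of_forall fun e he =>
    (hE₀ _).2 ⟨mul_mem (mul_mem hs ((hE₀ e).1 he).1) (inv_mem hs), by
      rw [conj_pow, ((hE₀ e).1 he).2, mul_one, mul_inv_cancel]⟩
  set SN := (S : Subgroup G).subgroupOf N with hSNdef
  have hSNidx : ¬ 2 ∣ SN.index := fun hd => S.not_dvd_index (hd.trans (relIndex_dvd_index_of_le hSN))
  have hSN2 : IsPGroup 2 SN := hS.of_equiv (subgroupOfEquivOfLe hSN).symm
  -- transitivity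
  have htr : ∀ e e' : E₁, e ≠ 1 → e' ≠ 1 → ∃ y ∈ θ.range, y e = e' := by
    intro e e' he he'
    obtain ⟨g, hg⟩ := hconj _ e.1.2 _ e'.1.2 (congrArg Subtype.val e.2) (congrArg Subtype.val e'.2)
      (fun h => he (Subtype.ext (Subtype.ext h))) (fun h => he' (Subtype.ext (Subtype.ext h)))
    obtain ⟨n, hn, hne⟩ := exists_normalizer_conj S E₀ hE₀ hE₀c ⟨e, e.2, rfl⟩ (g := g)
      (show g * ((e : S') : G) * g⁻¹ ∈ E₀ by rw [hg]; exact ⟨e', e'.2, rfl⟩)
    exact ⟨θ ⟨n, hn⟩, ⟨_, rfl⟩, Subtype.ext (Subtype.ext (hne.trans hg))⟩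
  -- the restriction to the involutions
  let rE : MulAut S' →* MulAut E₁ := FPF.resAct (MonoidHom.id (MulAut S')) E₁ hE₁inv
  set R := (GlauberAut.resHom S).range
  have hfN : ∀ (f : GlauberAut.stab S) (g : N), (f : MulAut G) g ∈ N := fun f g =>
    Coprime.mem_normalizer_of_forall fun e he => by
      obtain ⟨heS, he2⟩ := (hE₀ e).1 he
      have h0 : (f : MulAut G)⁻¹ e ∈ E₀ := (hE₀ _).2
        ⟨(((GlauberAut.stab S).inv_mem f.2) e).2 heS, by rw [← map_pow, he2, map_one]⟩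
      obtain ⟨h1, h2⟩ := (hE₀ _).1 ((mem_normalizer_iff.1 g.2 _).1 h0)
      have e1 : (f : MulAut G) ((g : G) * ((f : MulAut G)⁻¹ e) * (g : G)⁻¹) =
          (f : MulAut G) g * e * ((f : MulAut G) g)⁻¹ := by
        rw [map_mul, map_mul, map_inv, MulAut.apply_inv_self]
      rw [← e1]
      exact (hE₀ _).2 ⟨(f.2 _).2 h1, by rw [← map_pow, h2, map_one]⟩
  have hconjθ : ∀ (f : GlauberAut.stab S) (g : N),
      rE (GlauberAut.resHom S f) * θ g * (rE (GlauberAut.resHom S f))⁻¹ = θ ⟨_, hfN f g⟩ := by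
    intro f g
    rw [mul_inv_eq_iff_eq_mul]
    refine MulEquiv.ext fun e => Subtype.ext (Subtype.ext ?_)
    show (f : MulAut G) ((g : G) * ((e : S') : G) * (g : G)⁻¹) =
      (f : MulAut G) g * (f : MulAut G) ((e : S') : G) * ((f : MulAut G) g)⁻¹
    rw [map_mul, map_mul, map_inv]
  let T := SN.map θ
  have hTY : T ≤ θ.range := map_le_range θ SN
  have hTrel : ¬ 2 ∣ T.relIndex θ.range := by
    have e : T.subgroupOf θ.range = SN.map θ.rangeRestrict := by
      ext y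
      rw [mem_subgroupOf]
      constructor
      · rintro ⟨s, hs, e⟩; exact ⟨s, hs, Subtype.ext e⟩
      · rintro ⟨s, hs, rfl⟩; exact ⟨s, hs, rfl⟩
    rw [relIndex, e]
    exact fun hd => hSNidx (hd.trans (index_map_dvd SN θ.rangeRestrict_surjective))
  have hX : Group.IsSolvable (R.map rE) := by
    refine isSolvable_of_normalizes hE₁sq htr hTY (hSN2.map θ) hTrel ?_ ?_
    · rintro _ ⟨_, ⟨f, rfl⟩, rfl⟩
      refine Coprime.mem_normalizer_of_forall fun y hy => ?_
      obtain ⟨g, rfl⟩ := hy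
      exact ⟨_, (hconjθ f g).symm⟩
    · rintro _ ⟨_, ⟨f, rfl⟩, rfl⟩
      refine Coprime.mem_normalizer_of_forall fun y hy => ?_
      obtain ⟨g, hg, rfl⟩ := hy
      rw [hconjθ]
      exact ⟨_, (f.2 _).2 hg, rfl⟩
  refine isSolvable_of_hom (rE.comp R.subtype) (by rwa [MonoidHom.range_comp, range_subtype]) ?_
  -- the centraliser of the involutions
  let P₁ : Subgroup S' := centralizer (E₁ : Set S')
  haveI : P₁.Characteristic := PGroup.characteristic_of_forall_mem fun φ x hx => by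
    refine mem_centralizer_iff.2 fun e he => ?_
    have h := mem_centralizer_iff.1 hx (φ⁻¹ e) (hE₁inv φ⁻¹ e he)
    have h' := congrArg φ h
    rwa [map_mul, map_mul, MulAut.apply_inv_self] at h'
  have hE₁P₁ : E₁ ≤ P₁ := fun x hx => mem_centralizer_iff.2 fun y hy =>
    congrArg Subtype.val (mul_comm (⟨y, hy⟩ : E₁) ⟨x, hx⟩)
  set P₀ := P₁.map (S : Subgroup G).subtype
  set C := centralizer (E₀ : Set G)
  have hP₀ : ∀ x, x ∈ P₀ ↔ x ∈ (S : Subgroup G) ∧ x ∈ C := fun x => by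
    constructor
    · rintro ⟨p, hp, rfl⟩
      refine ⟨p.2, mem_centralizer_iff.2 ?_⟩
      rintro _ ⟨e, he, rfl⟩
      exact congrArg Subtype.val (mem_centralizer_iff.1 hp e he)
    · rintro ⟨h1, h2⟩
      exact ⟨⟨x, h1⟩, mem_centralizer_iff.2 fun e he =>
        Subtype.ext (mem_centralizer_iff.1 h2 _ ⟨e, he, rfl⟩), rfl⟩
  have hP₀C : P₀ ≤ C := fun x hx => ((hP₀ x).1 hx).2
  have hCN : C ≤ N := centralizer_le_normalizer _
  have hP₀rel : ¬ 2 ∣ P₀.relIndex C := by
    have e : P₀ = (S : Subgroup G) ⊓ C := Subgroup.ext fun x => hP₀ x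
    rw [e, inf_relIndex_right, ← relIndex_subgroupOf hCN]
    haveI : (C.subgroupOf N).Normal := by
      rw [show C.subgroupOf N = (E₀.normalizerMonoidHom).ker from (normalizerMonoidHom_ker E₀).symm]
      infer_instance
    exact fun hd => hSNidx (hd.trans (S4354.relIndex_dvd_index _ _))
  have hPc : ∀ x : P₁, x ^ 2 = 1 → ∀ y, x * y = y * x := fun x hx y =>
    Subtype.ext (mem_centralizer_iff.1 y.2 (x : S')
      (show (x : S') ^ 2 = 1 from congrArg Subtype.val hx))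
  have hPtr : ∀ x y : P₁, x ^ 2 = 1 → y ^ 2 = 1 → x ≠ 1 → y ≠ 1 → ∃ f : MulAut P₁, f x = y := by
    intro x y hx hy hx1 hy1
    have hxE : (((x : S') : G)) ∈ E₀ := ⟨(x : S'), show (x : S') ^ 2 = 1 from congrArg Subtype.val hx, rfl⟩
    have hyE : (((y : S') : G)) ∈ E₀ := ⟨(y : S'), show (y : S') ^ 2 = 1 from congrArg Subtype.val hy, rfl⟩
    obtain ⟨g, hg⟩ := hconj _ (x : S').2 _ (y : S').2 ((hE₀ _).1 hxE).2 ((hE₀ _).1 hyE).2
      (fun h => hx1 (Subtype.ext (Subtype.ext h))) (fun h => hy1 (Subtype.ext (Subtype.ext h)))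
    obtain ⟨n, hn, hne⟩ := exists_normalizer_conj S E₀ hE₀ hE₀c hxE (g := g) (hg.symm ▸ hyE)
    rw [hg] at hne
    obtain ⟨c, hc, hle⟩ := Transfer.exists_conj_le_of_not_dvd_relIndex (H := C) hP₀C
      ((hS.to_subgroup P₁).map _) hP₀rel (Q := P₀.map (MulAut.conj n).toMonoidHom) (by
        rintro _ ⟨p, hp, rfl⟩
        refine mem_centralizer_iff.2 fun e he => ?_
        have he' : n⁻¹ * e * n ∈ E₀ := by
          have := (mem_normalizer_iff.1 (inv_mem hn) e).1 he
          simpa using this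
        have h := mem_centralizer_iff.1 ((hP₀ p).1 hp).2 _ he'
        show e * (n * p * n⁻¹) = n * p * n⁻¹ * e
        calc e * (n * p * n⁻¹) = n * ((n⁻¹ * e * n) * p) * n⁻¹ := by group
          _ = n * (p * (n⁻¹ * e * n)) * n⁻¹ := by rw [h]
          _ = _ := by group)
      (((hS.to_subgroup P₁).map _).map _)
    have hmem : ∀ p ∈ P₀, c * n * p * (c * n)⁻¹ ∈ P₀ := fun p hp => by
      have := hle ⟨_, ⟨p, hp, rfl⟩, rfl⟩
      rw [show c * n * p * (c * n)⁻¹ = c * (n * p * n⁻¹) * c⁻¹ by group]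
      exact this
    have hcn : c * n ∈ normalizer (P₀ : Set G) := Coprime.mem_normalizer_of_forall hmem
    -- conjugation restricted to `P₁`
    let e₁ : P₁ ≃* P₀ := P₁.equivMapOfInjective _ (S : Subgroup G).subtype_injective
    let φ : MulAut P₁ := (e₁.trans (P₀.normalizerMonoidHom ⟨c * n, hcn⟩)).trans e₁.symm
    refine ⟨φ, e₁.injective ?_⟩
    refine Subtype.ext ?_
    have h1 : ∀ z : P₁, ((e₁ z : P₀) : G) = ((z : S') : G) := fun z => rfl
    show ((e₁ (e₁.symm (P₀.normalizerMonoidHom ⟨c * n, hcn⟩ (e₁ x))) : P₀) : G) = (e₁ y : G)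
    rw [MulEquiv.apply_symm_apply, h1]
    show c * n * (e₁ x : G) * (c * n)⁻¹ = _
    rw [h1, show c * n * ((x : S') : G) * (c * n)⁻¹ = c * (n * ((x : S') : G) * n⁻¹) * c⁻¹ by group, hne,
      mul_inv_eq_iff_eq_mul]
    exact (mem_centralizer_iff.1 hc _ hyE).symm
  -- the restriction to `P₁`
  let rP : MulAut S' →* MulAut P₁ := FPF.resAct (MonoidHom.id (MulAut S')) P₁
    (FPF.inv_of_characteristic _ P₁)
  let K : Subgroup (MulAut P₁) :=
    { carrier := {f | ∀ x : P₁, x ^ 2 = 1 → f x = x}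
      one_mem' := fun _ _ => rfl
      mul_mem' := fun {f f'} hf hf' x hx => by rw [MulAut.mul_apply, hf' x hx, hf x hx]
      inv_mem' := fun {f} hf x hx => by
        nth_rw 1 [← hf x hx]
        exact MulAut.inv_apply_self _ f x }
  have hK := isSolvable_fix_involutions (hS.to_subgroup P₁) hPc hPtr K (fun _ => Iff.rfl)
  refine isSolvable_of_kernel (rP.comp (R.subtype.comp (Subgroup.subtype _))) (isSolvable_of_le hK ?_) ?_
  · rintro _ ⟨f, rfl⟩ x hx
    have h := DFunLike.congr_fun f.2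
      (⟨(x : S'), show (x : S') ^ 2 = 1 from congrArg Subtype.val hx⟩ : E₁)
    have h' : ((f : R) : MulAut S') (x : S') = (x : S') := congrArg Subtype.val h
    exact Subtype.ext h'
  intro r hr hr2 f hfr hf
  refine Subtype.ext (Subtype.ext ?_)
  refine PGroup.aut_eq_one_of_fix_selfCentralizing hS (H := P₁)
    (fun x hx => mem_centralizer_iff.2 fun e he => mem_centralizer_iff.1 hx e (hE₁P₁ he))
    (Nat.Coprime.coprime_dvd_left
      (orderOf_dvd_of_pow_eq_one (congrArg Subtype.val (congrArg Subtype.val hfr)))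
      ((Nat.coprime_primes hr Nat.prime_two).2 hr2)) fun x hx => ?_
  exact congrArg Subtype.val (DFunLike.congr_fun hf (⟨x, hx⟩ : P₁))

end Cfsg.Agent.OutCriteria
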