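import Cfsg.Agent.Lib.OutCriteria.Linear
import Cfsg.Agent.Lib.GlauberAut.Out
import Cfsg.Agent.Lib.RankTwo.Auto
import Cfsg.Agent.Lib.AltEightSub.Linear
import Cfsg.Agent.Lib.PGroup.Basic
import Cfsg.Agent.Lib.BurnsideBasis.Basic
import Cfsg.Agent.Lib.Coprime.Basic

/-!
# A three-generated Sylow 2-subgroup with an automiser that is no 2-group (owner: helper64)

* `isSolvable_normalizer_small`: normalisers of odd prime order subgroups of `GL₃(2)` are solvable
* `isSolvable_of_three_generated`: the image of `N_{Aut G}(S)` in `Aut S` is solvable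
-/

set_option autoImplicit false

namespace Cfsg.Agent.OutCriteria

open Subgroup

theorem isSolvable_normalizer_small {E : Type*} [CommGroup E] [Finite E] (hE : ∀ e : E, e * e = 1)
    (h8 : Nat.card E = 2 ^ 3) {u : MulAut E} {p : ℕ} (hp : p = 3 ∨ p = 7) (hu : orderOf u = p) :
    Group.IsSolvable (normalizer (zpowers u : Set (MulAut E))) := by
  classical
  haveI : Nontrivial E := Finite.one_lt_card_iff_nontrivial.1 (by rw [h8]; norm_num)
  have hu1 : u ≠ 1 := fun h => by
    rw [h, orderOf_one] at hu; omega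
  have hup : u ^ p = 1 := hu ▸ pow_orderOf_eq_one u
  rcases hp with rfl | rfl
  swap
  · refine isSolvable_normalizer_of_irreducible (mem_zpowers u) (fun r hr => ?_)
      (irreducible_of_primitive hE h8 (by norm_num) (by norm_num) (fun k hk hk' => by interval_cases k <;> norm_num)
        hup hu1)
    obtain ⟨j, rfl⟩ := mem_powers_iff_mem_zpowers.2 hr
    exact ((Commute.refl u).pow_right j).eq
  let Z := zpowers u
  let e := IsCyclic.mulAutMulEquiv Z
  refine isSolvable_of_hom Z.normalizerMonoidHom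
    (Group.isSolvable_of_comm fun x y => Subtype.ext (e.injective (by
      rw [Subgroup.coe_mul, Subgroup.coe_mul, map_mul, map_mul, mul_comm]))) ?_
  rw [normalizerMonoidHom_ker]
  -- the centraliser
  have hcomm : ∀ g : ((centralizer (Z : Set (MulAut E))).subgroupOf (normalizer (Z : Set (MulAut E)))),
      Commute ((g : normalizer (Z : Set (MulAut E))) : MulAut E) u := fun g =>
    (mem_centralizer_iff.1 g.2 u (mem_zpowers u)).symm
  let d : E →* E :=
    { toFun := fun v => u v * v
      map_one' := by rw [map_one, one_mul]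
      map_mul' := fun v w => by rw [map_mul]; ac_rfl }
  let act : ((centralizer (Z : Set (MulAut E))).subgroupOf (normalizer (Z : Set (MulAut E)))) →* MulAut E :=
    (normalizer (Z : Set (MulAut E))).subtype.comp (Subgroup.subtype _)
  have hW : FPF.Inv act d.range := by
    rintro g _ ⟨v, rfl⟩
    refine ⟨(act g) v, ?_⟩
    show u ((act g) v) * (act g) v = (act g) (u v * v)
    rw [map_mul]
    congr 1
    exact (DFunLike.congr_fun (hcomm g).eq v).symm
  have hkd : d.ker = fix u := by
    ext v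
    rw [MonoidHom.mem_ker, mem_fix]
    show u v * v = 1 ↔ _
    exact ⟨fun h => by rw [← mul_one (u v), ← hE v, ← mul_assoc, h, one_mul], fun h => by rw [h, hE]⟩
  obtain ⟨f, hf⟩ := exists_card_eq hE (fix u)
  have hf3 : f ≤ 3 := (Nat.pow_dvd_pow_iff_le_right (le_refl 2)).1
    (by rw [← hf, ← h8]; exact card_subgroup_dvd_card _)
  have hmod := card_fix_modEq (x := u) Nat.prime_three (k := 1) (by rwa [pow_one]) (W := (⊤ : Subgroup E))
    (fun v _ => mem_top _)
  rw [top_inf_eq, card_top, h8, hf] at hmod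
  have hf1 : f = 1 := by
    have hne : f ≠ 3 := fun h => card_lt_of_moved hu1 (eq_top_of_card_eq _ (by rw [hf, h, h8]))
    interval_cases f <;> first | rfl | exact absurd rfl hne | simp [Nat.ModEq] at hmod
  subst hf1
  have hWc : Nat.card d.range ≤ 4 := by
    have h := d.ker.card_mul_index
    rw [index_ker, hkd, hf, h8] at h
    omega
  refine isSolvable_of_hom (FPF.resAct act d.range hW)
    (isSolvable_of_card_le_six ((Nat.card_le_card_of_injective _ (Subgroup.subtype_injective _)).trans
      (HallHigman.card_mulAut_le_six hWc))) ?_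
  refine Group.isSolvable_of_comm fun a b => ?_
  suffices h : ∀ a : (FPF.resAct act d.range hW).ker, a = 1 by rw [h a, h b]
  intro a
  refine Subtype.ext (Subtype.ext (Subtype.ext (MulEquiv.ext fun v => ?_)))
  show act (a : _) v = v
  have hfixW : ∀ w ∈ d.range, act (a : _) w = w := fun w hw =>
    congrArg Subtype.val (DFunLike.congr_fun (MonoidHom.mem_ker.1 a.2) (⟨w, hw⟩ : d.range))
  -- the fixed subgroup is `{1, w₀}`
  have hfixF : ∀ w ∈ fix u, act (a : _) w = w := by
    intro w hw
    by_cases hw1 : w = 1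
    · rw [hw1, map_one]
    have hmem : act (a : _) w ∈ fix u := fix_invariant (hcomm (a : _)) w hw
    have hne : act (a : _) w ≠ 1 := fun h => hw1 (by
      rw [← map_one (act (a : _))] at h; exact (act (a : _)).injective h)
    have h2 : Nat.card (fix u) = 2 := hf
    obtain ⟨x, y, -, hxy⟩ := Nat.card_eq_two_iff.1 h2
    have : ∀ s t : fix u, s ≠ 1 → t ≠ 1 → s = t := fun s t hs ht => by
      have h1 : (1 : fix u) ∈ ({x, y} : Set (fix u)) := hxy.ge (Set.mem_univ _)
      have hs' : s ∈ ({x, y} : Set (fix u)) := hxy.ge (Set.mem_univ _)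
      have ht' : t ∈ ({x, y} : Set (fix u)) := hxy.ge (Set.mem_univ _)
      simp only [Set.mem_insert_iff, Set.mem_singleton_iff] at h1 hs' ht'
      rcases h1 with h1 | h1 <;> rcases hs' with hs' | hs' <;> rcases ht' with ht' | ht' <;>
        simp_all
    exact congrArg Subtype.val (this ⟨_, hmem⟩ ⟨w, hw⟩ (fun h => hne (congrArg Subtype.val h))
      (fun h => hw1 (congrArg Subtype.val h)))
  have htop : d.range ⊔ fix u = ⊤ := by
    refine eq_top_of_card_eq _ (le_antisymm (card_le_card_group _) ?_)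
    have hdis : Disjoint d.range (fix u) := by
      rw [disjoint_iff, eq_bot_iff]
      rintro w ⟨⟨v, hv⟩, hw⟩
      rw [mem_bot]
      have hw' : u w = w := mem_fix.1 hw
      rw [← hv] at hw' ⊢
      change u (u v * v) = u v * v at hw'
      rw [map_mul, mul_comm (u v) v] at hw'
      have h2 : u (u v) = v := mul_right_cancel hw'
      have h3 : u v = v := by
        have := DFunLike.congr_fun hup v
        rw [pow_succ, pow_two, MulAut.mul_apply, MulAut.mul_apply, MulAut.one_apply, h2] at this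
        exact this
      show u v * v = 1
      rw [h3, hE]
    have hinj := mul_injective_of_disjoint hdis
    have h := Nat.card_le_card_of_injective
      (fun z : d.range × fix u => (⟨(z.1 : E) * z.2, mul_mem_sup z.1.2 z.2.2⟩ : ↥(d.range ⊔ fix u)))
      fun a b h => hinj (congrArg Subtype.val h)
    rw [Nat.card_prod, hf] at h
    have h' := d.ker.card_mul_index
    rw [index_ker, hkd, hf] at h'
    omega
  have hle : d.range ⊔ fix u ≤ fix (act (a : _)) :=
    sup_le (fun w hw => mem_fix.2 (hfixW w hw)) (fun w hw => mem_fix.2 (hfixF w hw))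
  exact mem_fix.1 (hle (htop.ge (mem_top v)))

/-- A group generated by three commuting elements of order at most 2. -/
theorem card_le_eight {Q : Type*} [CommGroup Q] (hQ : ∀ v : Q, v * v = 1) {a b c : Q}
    (h : closure ({a, b, c} : Set Q) = ⊤) : Nat.card Q ≤ 8 := by
  have hz : ∀ v : Q, Nat.card (zpowers v) ≤ 2 := fun v => by
    rw [Nat.card_zpowers]
    exact Nat.le_of_dvd (by norm_num) (orderOf_dvd_of_pow_eq_one (by rw [pow_two, hQ]))
  haveI : ∀ v : Q, Finite (zpowers v) := fun v => Nat.finite_of_card_ne_zero (by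
    rw [Nat.card_zpowers]
    intro h0
    have h1 := orderOf_dvd_of_pow_eq_one (show v ^ 2 = 1 by rw [pow_two, hQ])
    rw [h0] at h1; norm_num at h1)
  let φ : zpowers a × zpowers b × zpowers c →* Q :=
    (zpowers a).subtype.coprod ((zpowers b).subtype.coprod (zpowers c).subtype)
  have hφ : φ.range = ⊤ := top_le_iff.1 (h.ge.trans ((closure_le _).2 (by
    rintro x (rfl | rfl | rfl)
    · exact ⟨(⟨x, mem_zpowers x⟩, 1, 1), by simp [φ]⟩
    · exact ⟨(1, ⟨x, mem_zpowers x⟩, 1), by simp [φ]⟩
    · exact ⟨(1, 1, ⟨x, mem_zpowers x⟩), by simp [φ]⟩)))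
  refine (Nat.card_le_card_of_surjective φ (MonoidHom.range_eq_top.1 hφ)).trans ?_
  rw [Nat.card_prod, Nat.card_prod]
  exact Nat.mul_le_mul (hz a) (Nat.mul_le_mul (hz b) (hz c))

variable {G : Type*} [Group G] [Finite G] (S : Sylow 2 G)

/-- Case (b): three generators and an automiser that is no 2-group. -/
theorem isSolvable_of_three_generated
    (h3 : ∃ a b c : ↥S, closure ({a, b, c} : Set ↥S) = ⊤)
    (hg : ∃ g ∈ normalizer ((S : Subgroup G) : Set G), Odd (orderOf g) ∧
      g ∉ centralizer ((S : Subgroup G) : Set G)) :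
    Group.IsSolvable (GlauberAut.resHom S).range := by
  classical
  haveI : Fact (Nat.Prime 2) := ⟨Nat.prime_two⟩
  obtain ⟨a, b, c, habc⟩ := h3
  obtain ⟨g, hgN, hgodd, hgC⟩ := hg
  let S' := ↥(S : Subgroup G)
  have hS : IsPGroup 2 S' := S.2
  let F := frattini S'
  have hFinv : FPF.Inv (MonoidHom.id (MulAut S')) F := FPF.inv_of_characteristic _ F
  let Q := S' ⧸ F
  letI : CommGroup Q :=
    { (inferInstance : Group (S' ⧸ F)) with mul_comm := BurnsideBasis.quotient_mul_comm hS }
  have hQ : ∀ v : Q, v * v = 1 := fun v => by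
    obtain ⟨x, rfl⟩ := QuotientGroup.mk_surjective v
    rw [← QuotientGroup.mk_mul, QuotientGroup.eq_one_iff, ← pow_two]
    exact PGroup.pow_mem_frattini hS x
  have hQ8 : Nat.card Q ≤ 8 := by
    refine card_le_eight hQ (a := (a : Q)) (b := (b : Q)) (c := (c : Q)) ?_
    have h := congrArg (Subgroup.map (QuotientGroup.mk' F)) habc
    rw [MonoidHom.map_closure, Subgroup.map_top_of_surjective _ (QuotientGroup.mk'_surjective F),
      Set.image_insert_eq, Set.image_pair] at h
    exact h
  let ρ : MulAut S' →* MulAut Q := FPF.quotAct (MonoidHom.id (MulAut S')) F hFinv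
  have hker : ∀ r : ℕ, r.Prime → r ≠ 2 → ∀ x : MulAut S', x ^ r = 1 → ρ x = 1 → x = 1 := by
    intro r hr hr2 x hxr hx
    haveI := Fact.mk hr
    refine RankTwo.aut_eq_one_of_frattini hS hr2 hxr fun y => ?_
    have h := DFunLike.congr_fun hx (y : Q)
    rw [MulAut.one_apply] at h
    exact QuotientGroup.eq.1 h.symm
  -- the automiser
  let θ : normalizer ((S : Subgroup G) : Set G) →* MulAut S' := (S : Subgroup G).normalizerMonoidHom
  let A := (ρ.comp θ).range
  have hAodd : Odd (Nat.card A) := by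
    have hle : (S : Subgroup G).subgroupOf (normalizer ((S : Subgroup G) : Set G)) ≤ (ρ.comp θ).ker := by
      intro s hs
      refine MulEquiv.ext fun v => ?_
      obtain ⟨x, rfl⟩ := QuotientGroup.mk_surjective v
      show ((θ s x : S') : Q) = (x : Q)
      have e : θ s x = ⟨_, hs⟩ * x * (⟨_, hs⟩ : S')⁻¹ := Subtype.ext rfl
      rw [e, QuotientGroup.mk_mul, QuotientGroup.mk_mul, QuotientGroup.mk_inv, mul_right_comm,
        mul_inv_cancel, one_mul]
    show Odd (Nat.card (ρ.comp θ).range)
    rw [← index_ker]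
    refine Nat.not_even_iff_odd.1 fun he => S.not_dvd_index ?_
    exact (he.two_dvd.trans (index_dvd_of_le hle)).trans (relIndex_dvd_index_of_le le_normalizer)
  have hgθ : ρ (θ ⟨g, hgN⟩) ≠ 1 := fun h => by
    have hθ : θ ⟨g, hgN⟩ = 1 := by
      let K := ρ.ker
      have hK : IsPGroup 2 K := isPGroup_of_prime fun r hr hr2 x hx =>
        Subtype.ext (hker r hr hr2 x (congrArg Subtype.val hx) x.2)
      refine congrArg Subtype.val (PGroup.eq_one_of_pow_eq_one_coprime hK (x := (⟨_, h⟩ : K))
        (n := orderOf g) (Nat.Coprime.symm ((Nat.prime_two.coprime_iff_not_dvd).2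
          (fun hd => (Nat.not_even_iff_odd.2 hgodd) (even_iff_two_dvd.2 hd)))) (Subtype.ext ?_))
      show θ ⟨g, hgN⟩ ^ orderOf g = 1
      rw [← map_pow, show (⟨g, hgN⟩ : normalizer ((S : Subgroup G) : Set G)) ^ orderOf g = 1 from
        Subtype.ext (pow_orderOf_eq_one g), map_one]
    have hk : (⟨g, hgN⟩ : normalizer ((S : Subgroup G) : Set G)) ∈
        (S : Subgroup G).normalizerMonoidHom.ker := hθ
    rw [normalizerMonoidHom_ker] at hk
    exact hgC hk
  let X := (GlauberAut.resHom S).range.map ρ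
  suffices hX : Group.IsSolvable X by
    refine isSolvable_of_kernel (ρ.comp (GlauberAut.resHom S).range.subtype) ?_
      fun r hr hr2 x hxr hx => Subtype.ext (hker r hr hr2 x (congrArg Subtype.val hxr) hx)
    rw [MonoidHom.range_comp, range_subtype]
    exact hX
  by_cases h4 : Nat.card Q ≤ 4
  · exact isSolvable_of_card_le_six ((Nat.card_le_card_of_injective _ X.subtype_injective).trans
      (HallHigman.card_mulAut_le_six h4))
  obtain ⟨k, hk⟩ := exists_card_eq hQ (⊤ : Subgroup Q)
  rw [card_top] at hk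
  have hk3 : k = 3 := by
    rw [hk] at h4 hQ8
    have h5 : k ≤ 3 := (Nat.pow_le_pow_iff_right (le_refl 2)).1 (le_of_le_of_eq hQ8 (by norm_num))
    interval_cases k <;> simp_all
  subst hk3
  -- `X` normalises the automiser
  have hXA : ∀ x ∈ X, ∀ y ∈ A, x * y * x⁻¹ ∈ A := by
    rintro _ ⟨_, ⟨f, rfl⟩, rfl⟩ _ ⟨s, rfl⟩
    have hfn : ((f : MulAut G) s) ∈ normalizer ((S : Subgroup G) : Set G) := by
      rw [mem_normalizer_iff]
      intro y
      have h := mem_normalizer_iff.1 s.2 ((f : MulAut G)⁻¹ y)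
      have e : (f : MulAut G) ((s : G) * ((f : MulAut G)⁻¹ y) * (s : G)⁻¹) =
          (f : MulAut G) s * y * ((f : MulAut G) s)⁻¹ := by
        rw [map_mul, map_mul, map_inv, MulAut.apply_inv_self]
      rw [← e]
      rw [(f.2 _), ← h]
      conv_lhs => rw [← MulAut.apply_inv_self G (f : MulAut G) y, f.2]
    refine ⟨⟨_, hfn⟩, ?_⟩
    show ρ (θ ⟨_, hfn⟩) = ρ (GlauberAut.resHom S f) * ρ (θ s) * (ρ (GlauberAut.resHom S f))⁻¹
    rw [← map_inv, ← map_mul, ← map_mul]
    congr 1
    refine MulEquiv.ext fun z => Subtype.ext ?_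
    show (f : MulAut G) s * z * ((f : MulAut G) s)⁻¹ =
      (f : MulAut G) ((s : G) * ((((GlauberAut.resHom S f)⁻¹ z : S') : G)) * (s : G)⁻¹)
    rw [map_mul, map_mul, map_inv, ← GlauberAut.resHom_apply, MulAut.apply_inv_self]
  -- a subgroup of odd prime order
  have h168 : Nat.card (MulAut Q) = 168 := by
    rw [card_mulAut_elementary hQ hk]; exact AltEightSub.card_GL_small.2.2
  have hAd : Nat.card A ∣ 168 := h168 ▸ card_subgroup_dvd_card A
  have hA1 : Nat.card A ≠ 1 := fun h => hgθ (by
    have : ρ (θ ⟨g, hgN⟩) ∈ (⊥ : Subgroup (MulAut Q)) := (eq_bot_of_card_eq A h) ▸ ⟨⟨g, hgN⟩, rfl⟩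
    exact mem_bot.1 this)
  have hAv : Nat.card A = 3 ∨ Nat.card A = 7 ∨ Nat.card A = 21 := by
    have hle : Nat.card A ≤ 168 := Nat.le_of_dvd (by norm_num) hAd
    have hm : Nat.card A ∈ (168 : ℕ).divisors := Nat.mem_divisors.2 ⟨hAd, by norm_num⟩
    have hdiv : (168 : ℕ).divisors = {1, 2, 3, 4, 6, 7, 8, 12, 14, 21, 24, 28, 42, 56, 84, 168} := by decide
    rw [hdiv] at hm
    simp only [Finset.mem_insert, Finset.mem_singleton] at hm
    obtain ⟨j, hj⟩ := hAodd
    omega
  obtain ⟨p, hp, hpA, hsmall⟩ : ∃ p, (p = 3 ∨ p = 7) ∧ p ∣ Nat.card A ∧ Nat.card A < p * p := by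
    rcases hAv with h | h | h
    · exact ⟨3, Or.inl rfl, by rw [h], by rw [h]; norm_num⟩
    · exact ⟨7, Or.inr rfl, by rw [h], by rw [h]; norm_num⟩
    · exact ⟨7, Or.inr rfl, by rw [h]; norm_num, by rw [h]; norm_num⟩
  haveI : Fact p.Prime := ⟨by rcases hp with rfl | rfl <;> norm_num⟩
  obtain ⟨u, hu⟩ := exists_prime_orderOf_dvd_card' (G := A) p hpA
  have hu' : orderOf (u : MulAut Q) = p := by rw [← hu, Subgroup.orderOf_coe]
  refine isSolvable_of_le (isSolvable_normalizer_small hQ hk hp hu') fun x hx => ?_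
  refine Coprime.mem_normalizer_of_forall fun z hz => ?_
  obtain ⟨j, rfl⟩ := mem_powers_iff_mem_zpowers.2 hz
  rw [← conj_pow]
  refine pow_mem ?_ j
  set v := x * (u : MulAut Q) * x⁻¹ with hv
  have hvA : v ∈ A := hXA x hx _ u.2
  by_contra hnot
  have hov : orderOf v = p := by
    rw [hv, ← hu', ← MulAut.conj_apply]; exact MulEquiv.orderOf_eq (MulAut.conj x) (u : MulAut Q)
  have hdis : Disjoint (zpowers v) (zpowers (u : MulAut Q)) := by
    rw [disjoint_iff]
    rcases (Nat.dvd_prime (Fact.out : p.Prime)).1 ((Nat.card_zpowers v).trans hov ▸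
      card_dvd_of_le (inf_le_left : zpowers v ⊓ zpowers (u : MulAut Q) ≤ zpowers v)) with h | h
    · exact eq_bot_of_card_eq _ h
    · refine absurd ?_ hnot
      have he := eq_of_le_of_card_ge (inf_le_left : zpowers v ⊓ zpowers (u : MulAut Q) ≤ zpowers v)
        (by rw [h, Nat.card_zpowers, hov])
      exact (he.ge (mem_zpowers v)).2
  have hinj := mul_injective_of_disjoint hdis
  have h := Nat.card_le_card_of_injective (fun z : zpowers v × zpowers (u : MulAut Q) =>
    (⟨(z.1 : MulAut Q) * z.2, mul_mem (zpowers_le.2 hvA z.1.2) (zpowers_le.2 u.2 z.2.2)⟩ : A))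
    fun a b h => hinj (congrArg Subtype.val h)
  rw [Nat.card_prod, Nat.card_zpowers, Nat.card_zpowers, hov, hu'] at h
  omega

end Cfsg.Agent.OutCriteria
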